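import Groth.Agent.Lib.TateTors22.WeilLemma
import Mathlib.LinearAlgebra.Matrix.Charpoly.Minpoly
import Mathlib.LinearAlgebra.Matrix.Charpoly.Coeff
import Mathlib.RingTheory.AdjoinRoot
import Mathlib.NumberTheory.Padics.RingHoms
import Mathlib.Topology.Instances.Matrix
import Mathlib.RingTheory.MvPolynomial.Homogeneous

/-!
# Recognising a determinant from a multiplicative polynomial function
-/

universe u

open Polynomial

set_option linter.style.haveILetI false

namespace Groth.Agent.AVDegree22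

/-- A rational matrix `M` with `det (t + M) = P t`. -/
theorem exists_matrix_det_eq (P : ℚ[X]) (hP : P.Monic) {d : ℕ} (hd : P.natDegree = d) :
    ∃ M : Matrix (Fin d) (Fin d) ℚ, ∀ t : ℚ, (algebraMap ℚ (Matrix (Fin d) (Fin d) ℚ) t + M).det = P.eval t := by
  subst hd
  let h := AdjoinRoot.powerBasis hP.ne_zero
  refine ⟨-(Algebra.leftMulMatrix h.basis h.gen), fun t => ?_⟩
  have h1 := Matrix.eval_charpoly (Algebra.leftMulMatrix h.basis h.gen) t
  rw [charpoly_leftMulMatrix, show minpoly ℚ h.gen = P by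
    show minpoly ℚ (AdjoinRoot.root P) = P
    rw [AdjoinRoot.minpoly_root hP.ne_zero, hP.leadingCoeff, inv_one, map_one, mul_one]] at h1
  rw [h1, sub_eq_add_neg, Matrix.algebraMap_eq_diagonal]
  rfl

theorem eval_aeval {σ τ : Type*} (x : τ → ℚ) (sub : σ → MvPolynomial τ ℚ) (p : MvPolynomial σ ℚ) :
    MvPolynomial.eval x (MvPolynomial.aeval sub p) = MvPolynomial.eval (fun i => MvPolynomial.eval x (sub i)) p := by
  induction p using MvPolynomial.induction_on with
  | C a => simp
  | add p q hp hq => rw [map_add, map_add, hp, hq, map_add]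
  | mul_X p i hp => rw [map_mul, map_mul, hp, MvPolynomial.aeval_X, map_mul, MvPolynomial.eval_X]

variable {d : ℕ}

/-- The combination of powers of a matrix. -/
noncomputable def comb {R : Type*} [CommRing R] (M : Matrix (Fin d) (Fin d) R) (e : ℕ) (c : Fin (e + 1) → R) :
    Matrix (Fin d) (Fin d) R :=
  ∑ i, c i • M ^ (i : ℕ)

theorem comb_map {R S : Type*} [CommRing R] [CommRing S] (f : R →+* S) (M : Matrix (Fin d) (Fin d) R) (e : ℕ)
    (c : Fin (e + 1) → R) : (comb M e c).map f = comb (M.map f) e (fun i => f (c i)) := by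
  show f.mapMatrix (comb M e c) = comb (f.mapMatrix M) e _
  simp only [comb, map_sum]
  refine Finset.sum_congr rfl fun i _ => ?_
  rw [← map_pow]
  ext a b
  simp

/-- A polynomial function on the coefficients of monic polynomials which is multiplicative on linear
factors is the determinant at a matrix. -/
theorem eval_eq_det_of_mul (M : Matrix (Fin d) (Fin d) ℚ) (S : Set ℕ) (hS : S.Infinite) {e : ℕ}
    (F : MvPolynomial (Fin (e + 1)) ℚ)
    (h : ∀ v : Fin e → ℕ, (∀ j, v j ∈ S) →
      MvPolynomial.eval (fun i => (((∏ j, (X + C (v j))).coeff (i : ℕ) : ℕ) : ℚ)) F =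
        ∏ j, (algebraMap ℚ (Matrix (Fin d) (Fin d) ℚ) (v j : ℚ) + M).det)
    (G : ℕ[X]) (hG : G.Monic) (hGe : G.natDegree = e) :
    MvPolynomial.eval (fun i : Fin (e + 1) => ((G.coeff (i : ℕ) : ℕ) : ℚ)) F =
      (aeval M (G.map (Nat.castRingHom ℚ))).det := by
  classical
  let sub : Fin (e + 1) → MvPolynomial (Fin e) ℚ := fun i =>
    if hi : (i : ℕ) < e then MvPolynomial.X (⟨i, hi⟩ : Fin e).rev else 1
  let Fq : MvPolynomial (Fin e) ℚ := MvPolynomial.aeval sub F
  let R : MvPolynomial (Fin e) ℚ := (comb (M.map MvPolynomial.C) e sub).det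
  have hsub : ∀ H : ℕ[X], H.Monic → H.natDegree = e → ∀ i : Fin (e + 1),
      MvPolynomial.eval (fun j : Fin e => ((H.coeff ((j.rev : Fin e) : ℕ) : ℕ) : ℚ)) (sub i) =
        ((H.coeff (i : ℕ) : ℕ) : ℚ) := fun H hH hHe i => by
    by_cases hi : (i : ℕ) < e
    · simp only [sub, hi, dite_true, MvPolynomial.eval_X, Fin.rev_rev]
    · simp only [sub, hi, dite_false, map_one]
      rw [show (i : ℕ) = H.natDegree by omega, hH.coeff_natDegree, Nat.cast_one]
  have hF : ∀ H : ℕ[X], H.Monic → H.natDegree = e →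
      MvPolynomial.eval (fun j : Fin e => ((H.coeff ((j.rev : Fin e) : ℕ) : ℕ) : ℚ)) Fq =
        MvPolynomial.eval (fun i : Fin (e + 1) => ((H.coeff (i : ℕ) : ℕ) : ℚ)) F := fun H hH hHe => by
    rw [← funext (hsub H hH hHe)]
    exact eval_aeval _ sub F
  have hR : ∀ H : ℕ[X], H.Monic → H.natDegree = e →
      MvPolynomial.eval (fun j : Fin e => ((H.coeff ((j.rev : Fin e) : ℕ) : ℕ) : ℚ)) R =
        (aeval M (H.map (Nat.castRingHom ℚ))).det := fun H hH hHe => by
    set ev := MvPolynomial.eval (fun j : Fin e => ((H.coeff ((j.rev : Fin e) : ℕ) : ℕ) : ℚ))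
    show ev R = _
    rw [RingHom.map_det]
    show ((comb (M.map MvPolynomial.C) e sub).map ev).det = _
    rw [comb_map, Matrix.map_map, show (ev ∘ MvPolynomial.C) = id from funext fun a => MvPolynomial.eval_C a,
      Matrix.map_id, aeval_eq_sum_range' (n := e + 1) (by rw [hH.natDegree_map, hHe]; omega), comb,
      ← Fin.sum_univ_eq_sum_range (fun i => (H.map (Nat.castRingHom ℚ)).coeff i • M ^ i)]
    simp only [hsub H hH hHe, ev, coeff_map, Nat.coe_castRingHom]
  have hprod : ∀ v : Fin e → ℕ, (∏ j, (X + C (v j))).Monic ∧ (∏ j, (X + C (v j))).natDegree = e := fun v => by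
    refine ⟨monic_prod_of_monic _ _ fun j _ => monic_X_add_C _, ?_⟩
    rw [natDegree_prod_of_monic _ _ fun j _ => monic_X_add_C _,
      Finset.sum_congr rfl fun j _ => natDegree_X_add_C (v j)]
    simp
  have key : Fq = R := by
    refine TateTors22.eq_of_eval_esymm_eq Fq R (Nat.cast '' S) (hS.image Nat.cast_injective.injOn) fun w hw => ?_
    choose v hv hvw using hw
    obtain ⟨hm, hn⟩ := hprod v
    have hpt : (fun i : Fin e => MvPolynomial.eval w (MvPolynomial.esymm (Fin e) ℚ (i + 1))) =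
        fun j : Fin e => (((∏ j, (X + C (v j))).coeff ((j.rev : Fin e) : ℕ) : ℕ) : ℚ) := by
      funext i
      rw [← Nat.coe_castRingHom (α := ℚ), ← coeff_map, Polynomial.map_prod]
      simp only [Polynomial.map_add, map_X, map_C, Nat.coe_castRingHom, hvw]
      rw [Finset.prod_X_add_C_coeff _ _ (by simp)]
      rw [← MvPolynomial.aeval_eq_eval, MvPolynomial.aeval_esymm_eq_multiset_esymm, Finset.esymm_map_val]
      simp only [Finset.card_univ, Fintype.card_fin, Fin.val_rev]
      rw [show e - (e - ((i : ℕ) + 1)) = (i : ℕ) + 1 by omega]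
    rw [hpt, hF _ hm hn, hR _ hm hn, h v hv, Polynomial.map_prod]
    refine Eq.trans ?_ (map_prod (Matrix.detMonoidHom.comp (aeval (R := ℚ) M).toRingHom.toMonoidHom) _ _).symm
    refine Finset.prod_congr rfl fun j _ => ?_
    simp [add_comm]
  rw [← hF G hG hGe, key, hR G hG hGe]

variable {l : ℕ} [Fact l.Prime]

/-- Equal absolute values of determinants on polynomials with natural coefficients extend by continuity. -/
theorem norm_det_eq_of_nat (M : Matrix (Fin d) (Fin d) ℚ_[l]) (N : Matrix (Fin d) (Fin d) ℤ_[l])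
    (h : ∀ G : ℕ[X], G.Monic → (aeval N (G.map (Nat.castRingHom ℤ_[l]))).det ≠ 0 →
      ‖(aeval M (G.map (Nat.castRingHom ℚ_[l]))).det‖ = ‖(aeval N (G.map (Nat.castRingHom ℤ_[l]))).det‖)
    (G : ℤ_[l][X]) (hG : G.Monic) (hne : (aeval N G).det ≠ 0) :
    ‖(aeval M (G.map (algebraMap ℤ_[l] ℚ_[l]))).det‖ = ‖(aeval N G).det‖ := by
  classical
  set e := G.natDegree with he
  let ext1 : (Fin e → ℤ_[l]) → Fin (e + 1) → ℤ_[l] := fun c => Fin.snoc c 1
  let f1 : (Fin e → ℤ_[l]) → ℝ := fun c => ‖(comb M e fun i => ((ext1 c i : ℤ_[l]) : ℚ_[l])).det‖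
  let f2 : (Fin e → ℤ_[l]) → ℝ := fun c => ‖(comb N e (ext1 c)).det‖
  have hext : ∀ i, Continuous fun c => ext1 c i := fun i => by
    induction i using Fin.lastCases with
    | last => simp only [ext1, Fin.snoc_last]; exact continuous_const
    | cast j => simp only [ext1, Fin.snoc_castSucc]; exact continuous_apply j
  have h1c : Continuous f1 := (Continuous.matrix_det (continuous_finsetSum _ fun i _ =>
    (continuous_subtype_val.comp (hext i)).smul continuous_const)).norm
  have h2c : Continuous f2 :=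
    (Continuous.matrix_det (continuous_finsetSum _ fun i _ => (hext i).smul continuous_const)).norm
  let U : Set (Fin e → ℤ_[l]) := {c | f2 c ≠ 0}
  have hU : IsOpen U := isOpen_compl_singleton.preimage h2c
  let cast' : (Fin e → ℕ) → Fin e → ℤ_[l] := fun c j => (c j : ℤ_[l])
  have hdense : Dense (Set.range cast') := DenseRange.piMap fun _ => PadicInt.denseRange_natCast
  have hpoly : ∀ H : ℤ_[l][X], H.Monic → H.natDegree = e → ∀ i : Fin (e + 1),
      ext1 (fun j : Fin e => H.coeff (j : ℕ)) i = H.coeff (i : ℕ) := fun H hH hHe i => by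
    induction i using Fin.lastCases with
    | last =>
      simp only [ext1, Fin.snoc_last, Fin.val_last]
      rw [← hHe, hH.coeff_natDegree]
    | cast j => simp [ext1]
  have hf2 : ∀ H : ℤ_[l][X], H.Monic → H.natDegree = e →
      f2 (fun j : Fin e => H.coeff (j : ℕ)) = ‖(aeval N H).det‖ := fun H hH hHe => by
    simp only [f2, comb, hpoly H hH hHe]
    rw [aeval_eq_sum_range' (n := e + 1) (by omega),
      ← Fin.sum_univ_eq_sum_range (fun i => H.coeff i • N ^ i)]
  have hf1 : ∀ H : ℤ_[l][X], H.Monic → H.natDegree = e →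
      f1 (fun j : Fin e => H.coeff (j : ℕ)) = ‖(aeval M (H.map (algebraMap ℤ_[l] ℚ_[l]))).det‖ := fun H hH hHe => by
    simp only [f1, comb, hpoly H hH hHe]
    rw [aeval_eq_sum_range' (n := e + 1) (by rw [hH.natDegree_map]; omega),
      ← Fin.sum_univ_eq_sum_range (fun i => (H.map (algebraMap ℤ_[l] ℚ_[l])).coeff i • M ^ i)]
    simp only [coeff_map, PadicInt.algebraMap_apply]
  have hon : U ∩ Set.range cast' ⊆ {c | f1 c = f2 c} := by
    rintro _ ⟨hc, c, rfl⟩
    let H : ℕ[X] := X ^ e + ∑ j : Fin e, C (c j) * X ^ (j : ℕ)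
    have hlt : (∑ j : Fin e, C (c j) * X ^ (j : ℕ)).degree < ((e : ℕ) : WithBot ℕ) := by
      refine lt_of_le_of_lt (degree_sum_le _ _) ?_
      refine (Finset.sup_lt_iff (WithBot.bot_lt_coe e)).2 ?_
      exact fun j _ => lt_of_le_of_lt (degree_C_mul_X_pow_le _ _) (WithBot.coe_lt_coe.2 j.2)
    have hH : H.Monic := monic_X_pow_add hlt
    have hHd : H.natDegree = e := by
      rw [natDegree_add_eq_left_of_degree_lt (by rwa [degree_X_pow]), natDegree_X_pow]
    have hco : (fun j : Fin e => (H.map (Nat.castRingHom ℤ_[l])).coeff (j : ℕ)) = cast' c := funext fun j => by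
      rw [coeff_map, coeff_add, coeff_X_pow, if_neg (by omega), zero_add, finsetSum_coeff,
        Finset.sum_eq_single j]
      · simp [cast']
      · intro b _ hb
        rw [coeff_C_mul_X_pow, if_neg fun e => hb (Fin.ext e.symm)]
      · simp
    have e1 := hf1 _ (hH.map (Nat.castRingHom ℤ_[l])) (by rw [hH.natDegree_map, hHd])
    have e2 := hf2 _ (hH.map (Nat.castRingHom ℤ_[l])) (by rw [hH.natDegree_map, hHd])
    rw [hco] at e1 e2
    rw [Polynomial.map_map, show (algebraMap ℤ_[l] ℚ_[l]).comp (Nat.castRingHom ℤ_[l]) = Nat.castRingHom ℚ_[l] from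
      RingHom.ext fun n => by simp] at e1
    show f1 _ = f2 _
    have hne' : (aeval N (H.map (Nat.castRingHom ℤ_[l]))).det ≠ 0 := fun e0 => hc (by rw [e2, e0, norm_zero])
    rw [e1, e2, h H hH hne']
  have hmem : (fun j : Fin e => G.coeff (j : ℕ)) ∈ U := by
    show f2 _ ≠ 0
    rw [hf2 G hG he.symm]
    exact norm_ne_zero_iff.2 hne
  have := closure_minimal hon (isClosed_eq h1c h2c) (hdense.open_subset_closure_inter hU hmem)
  rw [← hf1 G hG he.symm, ← hf2 G hG he.symm]
  exact this

end Groth.Agent.AVDegree22
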