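import Groth.Agent.Lib.TateTors22.WeilLemma
import Groth.Agent.Lib.AVDegree22.DegAlgebra

/-!
# Spectral mapping with multiplicities
-/

open Polynomial

set_option linter.style.haveILetI false

namespace Groth.Agent.AVDegree22

theorem det_aeval_eq_lc_mul {L : Type*} [Field L] [IsAlgClosed L] {n : Type*} [Fintype n] [DecidableEq n]
    (M : Matrix n n L) (G : L[X]) :
    (aeval M G).det = (M.charpoly.roots.map fun b => G.eval b).prod := by
  have hcard : M.charpoly.roots.card = Fintype.card n := by
    rw [← (IsAlgClosed.splits _).natDegree_eq_card_roots, Matrix.charpoly_natDegree_eq_dim]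
  have h := (IsAlgClosed.splits G).eq_prod_roots
  have hm : ((G.roots.map fun a => X - C a).prod).Monic := monic_multisetProd_X_sub_C G.roots
  rw [h, map_mul, aeval_C, ← Algebra.smul_def, Matrix.det_smul, TateTors22.det_aeval_eq_prod_roots M hm]
  simp only [eval_mul, eval_C, Multiset.prod_map_mul, Multiset.map_const', Multiset.prod_replicate, hcard]

/-- The eigenvalues of a polynomial in a matrix. -/
theorem roots_charpoly_aeval {L : Type*} [Field L] [IsAlgClosed L] {n : Type*} [Fintype n] [DecidableEq n]
    (M : Matrix n n L) (G : L[X]) :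
    (aeval M G).charpoly.roots = M.charpoly.roots.map fun b => G.eval b := by
  have h : (aeval M G).charpoly = ((M.charpoly.roots.map fun b => G.eval b).map fun a => X - C a).prod := by
    refine Polynomial.funext fun t => ?_
    rw [Matrix.eval_charpoly, eval_multiset_prod, Multiset.map_map, Multiset.map_map]
    have h1 := det_aeval_eq_lc_mul M (C t - G)
    rw [map_sub, aeval_C, Matrix.algebraMap_eq_diagonal] at h1
    refine Eq.trans ?_ (h1.trans ?_)
    · rfl
    · simp
  rw [h, roots_multiset_prod_X_sub_C]

theorem map_aeval_int {E M' R : Type*} [Ring E] [Algebra ℤ E] [CommRing R] [Ring M'] [Algebra R M']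
    (Φ : E →+* M') (x : E) (F : ℤ[X]) :
    Φ (aeval x F) = aeval (Φ x) (F.map (Int.castRingHom R)) := by
  induction F using Polynomial.induction_on' with
  | add p q hp hq => rw [map_add, map_add, Polynomial.map_add, map_add, hp, hq]
  | monomial i a =>
    rw [aeval_monomial, Polynomial.map_monomial, aeval_monomial, map_mul, map_pow, eq_intCast (algebraMap ℤ E),
      map_intCast, eq_intCast (Int.castRingHom R), map_intCast]

/-- Eigenvalues of an integer polynomial in a rational matrix, over any algebraically closed field. -/
theorem roots_charpoly_aeval_rat {n : Type*} [Fintype n] [DecidableEq n] (M' : Matrix n n ℚ) (F : ℤ[X]) (P : ℚ[X])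
    (hM' : M'.charpoly = P) {T : Type*} [Field T] [IsAlgClosed T] [CharZero T] :
    ((aeval M' (F.map (Int.castRingHom ℚ))).charpoly.map (algebraMap ℚ T)).roots =
      (P.map (algebraMap ℚ T)).roots.map fun ω => aeval ω F := by
  have h1 := map_aeval_int (R := T) ((algebraMap ℚ T).mapMatrix : Matrix n n ℚ →+* _)
    M' F
  rw [← Matrix.charpoly_map]
  have h2 : aeval M' (F.map (Int.castRingHom ℚ)) = aeval M' F := by
    rw [← algebraMap_int_eq, aeval_map_algebraMap]
  rw [h2, show (aeval M' F).map (algebraMap ℚ T) = aeval (M'.map (algebraMap ℚ T)) (F.map (Int.castRingHom T)) from h1,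
    roots_charpoly_aeval, Matrix.charpoly_map, hM']
  refine Multiset.map_congr rfl fun ω _ => ?_
  rw [← algebraMap_int_eq, eval_map_algebraMap]

/-- Rational polynomials which become the characteristic polynomials of a matrix and of a polynomial in it. -/
theorem roots_map_of_charpoly {R L L' : Type*} [CommRing R] [Field L] [IsAlgClosed L] [Algebra R L] [CharZero L]
    [Field L'] [IsAlgClosed L'] [CharZero L'] {n : Type*} [Fintype n] [DecidableEq n] (N : Matrix n n R)
    (F : ℤ[X]) (P Q : ℚ[X]) (hPm : P.Monic) (hQm : Q.Monic)
    (hP : P.map (algebraMap ℚ L) = N.charpoly.map (algebraMap R L))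
    (hQ : Q.map (algebraMap ℚ L) = (aeval N (F.map (Int.castRingHom R))).charpoly.map (algebraMap R L)) :
    (Q.map (algebraMap ℚ L')).roots = (P.map (algebraMap ℚ L')).roots.map fun ω => aeval ω F := by
  classical
  obtain ⟨M, hM⟩ := exists_matrix_det_eq P hPm rfl
  let M' : Matrix (Fin P.natDegree) (Fin P.natDegree) ℚ := -M
  have hM' : M'.charpoly = P := Polynomial.funext fun t => by
    rw [Matrix.eval_charpoly, sub_neg_eq_add, ← hM, Matrix.algebraMap_eq_diagonal]
    rfl
  have hQ' : Q = (aeval M' (F.map (Int.castRingHom ℚ))).charpoly := by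
    apply map_injective (algebraMap ℚ L) (algebraMap ℚ L).injective
    have hr : (Q.map (algebraMap ℚ L)).roots = ((aeval M' (F.map (Int.castRingHom ℚ))).charpoly.map (algebraMap ℚ L)).roots := by
      rw [roots_charpoly_aeval_rat M' F P hM', hQ, hP, ← Matrix.charpoly_map, ← Matrix.charpoly_map]
      have h1 : (aeval N (F.map (Int.castRingHom R))).map (algebraMap R L) =
          aeval (N.map (algebraMap R L)) (F.map (Int.castRingHom L)) := by
        have := (aeval_algHom_apply (Algebra.ofId R L).mapMatrix N (F.map (Int.castRingHom R))).symm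
        rw [show Int.castRingHom L = (algebraMap R L).comp (Int.castRingHom R) from RingHom.ext_int _ _,
          ← Polynomial.map_map, aeval_map_algebraMap]
        exact this
      rw [h1, roots_charpoly_aeval]
      refine Multiset.map_congr rfl fun ω _ => ?_
      rw [← algebraMap_int_eq, eval_map_algebraMap]
    rw [(IsAlgClosed.splits _).eq_prod_roots_of_monic (hQm.map _),
      (IsAlgClosed.splits _).eq_prod_roots_of_monic ((Matrix.charpoly_monic (aeval M' (F.map (Int.castRingHom ℚ)))).map (algebraMap ℚ L)),
      hr]
  rw [hQ', roots_charpoly_aeval_rat M' F P hM']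

end Groth.Agent.AVDegree22
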