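import Groth.Agent.Lib.TateTors22.Minpoly

/-!
# The Tate representation is faithful
-/

universe u

open CategoryTheory Limits AlgebraicGeometry MonoidalCategory CartesianMonoidalCategory MonObj Polynomial

set_option linter.style.haveILetI false
set_option backward.isDefEq.respectTransparency false

namespace Groth.Agent.AVDegree22

variable {k : Type u} [Field k] {A : Over (Spec (CommRingCat.of k))}
  [GrpObj A] [IsCommMonObj A] [IsProper A.hom] [GeometricallyIntegral A.hom]
  (K : Type u) [Field K] [Algebra k K] [IsAlgClosed K] (l : ℕ) [Fact l.Prime]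

theorem tateRep_injective (hl : (l : k) ≠ 0) :
    Function.Injective (EndAV.End.tateRep (A := A) l (SGA7.pt (K := k) K)) := by
  haveI : Module.Free ℤ (EndAV.End A) := TateTors22.free_hom (A := A) (B := A)
  refine (injective_iff_map_eq_zero _).2 fun φ hφ => ?_
  by_contra h
  have hind : LinearIndependent ℤ ![φ] := linearIndependent_unique_iff.2 h
  exact (TateTors22.linearIndependent_tateMap (A := A) (B := A) K l hl ![φ] hind).ne_zero 0 hφ

theorem aeval_tateRep (φ : EndAV.End A) (F : ℤ[X]) :
    EndAV.End.tateRep l (SGA7.pt (K := k) K) (aeval φ F) =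
      aeval (EndAV.End.tateRep l (SGA7.pt (K := k) K) φ) (F.map (Int.castRingHom ℤ_[l])) := by
  induction F using Polynomial.induction_on' with
  | add p q hp hq => rw [map_add, map_add, Polynomial.map_add, map_add, hp, hq]
  | monomial i a =>
    rw [aeval_monomial, Polynomial.map_monomial, aeval_monomial, map_mul, map_pow, eq_intCast (algebraMap ℤ (EndAV.End A)),
      map_intCast, eq_intCast (Int.castRingHom ℤ_[l]), map_intCast]

end Groth.Agent.AVDegree22
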