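import Groth.Agent.Lib.AVDegree22.CharPoly
import Groth.Agent.Lib.AVDegree22.SpectralMap
import Groth.Agent.Lib.AVDegree22.TateFaithful

/-!
# Characteristic polynomial when the minimal polynomial is irreducible
-/

universe u

open CategoryTheory Limits AlgebraicGeometry MonoidalCategory CartesianMonoidalCategory MonObj
open Polynomial

set_option linter.style.haveILetI false
set_option backward.isDefEq.respectTransparency false

namespace Groth.Agent.AVDegree22

variable {k : Type u} [Field k] {A : Over (Spec (CommRingCat.of k))}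
  [GrpObj A] [IsCommMonObj A] [IsProper A.hom] [GeometricallyIntegral A.hom]

theorem toEnd0_injective : Function.Injective (EndAV.toEnd0 : EndAV.End A →ₐ[ℤ] EndAV.End0 A) := by
  haveI : Module.Free ℤ (EndAV.End A) := TateTors22.free_hom (A := A) (B := A)
  exact Algebra.TensorProduct.includeRight_injective (A := ℚ) (B := EndAV.End A) (RingHom.injective_int _)

/-- The minimal polynomial over `ℚ` of an endomorphism is integral and kills it. -/
theorem exists_int_minpoly (φ : EndAV.End A) :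
    IsIntegral ℚ (EndAV.toEnd0 φ) ∧ ∃ P : ℤ[X], P.Monic ∧ P.map (Int.castRingHom ℚ) = minpoly ℚ (EndAV.toEnd0 φ) ∧
      aeval φ P = 0 := by
  haveI : Module.Finite ℤ (EndAV.End A) := TateTors22.finite_hom (A := A) (B := A)
  obtain ⟨M, hM, hMa⟩ := Algebra.IsIntegral.isIntegral (R := ℤ) φ
  rw [← aeval_def] at hMa
  have hb : aeval (EndAV.toEnd0 φ) (M.map (algebraMap ℤ ℚ)) = 0 := by
    rw [aeval_map_algebraMap, aeval_algHom_apply, hMa, map_zero]
  have hint : IsIntegral ℚ (EndAV.toEnd0 φ) := ⟨M.map (algebraMap ℤ ℚ), hM.map _, by rw [← aeval_def, hb]⟩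
  obtain ⟨P, hP⟩ := IsIntegrallyClosed.eq_map_mul_C_of_dvd ℚ hM (minpoly.dvd ℚ _ hb)
  rw [minpoly.monic hint, C_1, _root_.mul_one] at hP
  refine ⟨hint, P, Function.Injective.monic_map_iff (algebraMap ℤ ℚ).injective_int |>.2 (hP ▸ minpoly.monic hint),
    by rw [← algebraMap_int_eq, hP], toEnd0_injective (A := A) ?_⟩
  rw [map_zero, ← aeval_algHom_apply, ← aeval_map_algebraMap ℚ, hP, minpoly.aeval]

variable [IsIntegral A.left] (K : Type u) [Field K] [Algebra k K] [IsAlgClosed K] {l : ℕ} [Fact l.Prime]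

theorem exists_charpoly_eq_minpoly_pow (hl : (l : k) ≠ 0) [Module.Free ℤ_[l] (AbDual.TateMod A l (SGA7.pt (K := k) K))]
    [Module.Finite ℤ_[l] (AbDual.TateMod A l (SGA7.pt (K := k) K))] {g : ℕ} (hg : topologicalKrullDim A.left = g)
    (φ : EndAV.End A) (hirr : Irreducible (minpoly ℚ (EndAV.toEnd0 φ))) :
    ∃ P : ℤ[X], (EndAV.End.tateRep l (SGA7.pt (K := k) K) φ).charpoly = P.map (Int.castRingHom ℤ_[l]) ∧
      P.map (Int.castRingHom ℚ) =
        minpoly ℚ (EndAV.toEnd0 φ) ^ (2 * g / (minpoly ℚ (EndAV.toEnd0 φ)).natDegree) := by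
  classical
  obtain ⟨hint, Q, -, hQm₀, hQ0⟩ := exists_int_minpoly φ
  obtain ⟨C₀, hCm, hCd, -, hCc⟩ := exists_int_charpoly (K := K) hl hg φ
  refine ⟨C₀, hCc, ?_⟩
  set m₀ := minpoly ℚ (EndAV.toEnd0 φ)
  let L := AlgebraicClosure ℚ_[l]
  let b := Module.Free.chooseBasis ℤ_[l] (AbDual.TateMod A l (SGA7.pt (K := k) K))
  let N := LinearMap.toMatrixAlgEquiv b (EndAV.End.tateRep l (SGA7.pt (K := k) K) φ)
  let NL := N.map (algebraMap ℤ_[l] L)
  have hN : N.charpoly = C₀.map (Int.castRingHom ℤ_[l]) := by rw [← hCc]; exact LinearMap.charpoly_toMatrix _ b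
  have hNL : NL.charpoly = (C₀.map (Int.castRingHom ℚ)).map (algebraMap ℚ L) := by
    rw [Matrix.charpoly_map, hN, Polynomial.map_map, Polynomial.map_map]
    exact congrArg (C₀.map ·) (RingHom.ext_int _ _)
  have h0 : aeval NL (Q.map (Int.castRingHom L)) = 0 := by
    let Φ : EndAV.End A →+* _ := ((Algebra.ofId ℤ_[l] L).mapMatrix.toRingHom.comp
      (LinearMap.toMatrixAlgEquiv b).toAlgHom.toRingHom).comp (EndAV.End.tateRep l (SGA7.pt (K := k) K))
    refine Eq.trans (Eq.symm (map_aeval_int (R := L) Φ φ Q)) ?_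
    rw [hQ0, map_zero]
  have hroot : ∀ a ∈ NL.charpoly.roots, (Q.map (Int.castRingHom L)).eval a = 0 := fun a ha => by
    have h1 := roots_charpoly_aeval NL (Q.map (Int.castRingHom L))
    rw [h0, Matrix.charpoly_zero, roots_X_pow] at h1
    have h2 := Multiset.mem_map_of_mem (fun b => (Q.map (Int.castRingHom L)).eval b) ha
    rw [← h1, Multiset.mem_nsmul] at h2
    simpa using h2.2
  have hdvdL : NL.charpoly ∣ (Q.map (Int.castRingHom L)) ^ NL.charpoly.roots.card := by
    conv_lhs => rw [(IsAlgClosed.splits _).eq_prod_roots_of_monic (Matrix.charpoly_monic NL)]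
    rw [← Multiset.prod_replicate, ← Multiset.map_const']
    exact Multiset.prod_dvd_prod_of_dvd _ _ fun a ha => dvd_iff_isRoot.2 (hroot a ha)
  have hdvd : C₀.map (Int.castRingHom ℚ) ∣ m₀ ^ NL.charpoly.roots.card := by
    refine (map_dvd_map' (algebraMap ℚ L)).1 ?_
    rw [← hNL, ← hQm₀, Polynomial.map_pow, Polynomial.map_map,
      RingHom.ext_int ((algebraMap ℚ L).comp (Int.castRingHom ℚ)) (Int.castRingHom L)]
    exact hdvdL
  obtain ⟨j, -, hj⟩ := (dvd_prime_pow hirr.prime _).1 hdvd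
  have hm₀m : m₀.Monic := minpoly.monic hint
  have heq : C₀.map (Int.castRingHom ℚ) = m₀ ^ j := eq_of_monic_of_associated (hCm.map _) (hm₀m.pow j) hj
  have hdeg : 2 * g = j * m₀.natDegree := by
    rw [← hCd, ← hm₀m.natDegree_pow, ← heq, hCm.natDegree_map]
  rw [heq, hdeg, Nat.mul_div_cancel _ hirr.natDegree_pos]

end Groth.Agent.AVDegree22
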