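import Groth.Agent.Lib.AVDegree22.Count
import Mathlib.RingTheory.Algebraic.Integral
import Mathlib.FieldTheory.IntermediateField.Adjoin.Algebra
import Mathlib.FieldTheory.IntermediateField.Adjoin.Basic
import Mathlib.RingTheory.AlgebraicIndependent.Defs
import Mathlib.Analysis.SpecificLimits.Basic
import Mathlib.RingTheory.AlgebraicIndependent.Basic
import Mathlib.Algebra.BigOperators.Field

/-!
# Growth of spaces of functions with bounded poles along a hyperplane at infinity
-/

universe u v

open MvPolynomial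

namespace Groth.Agent.AVDegree22

variable {k : Type u} [Field k] {K : Type v} [Field K] [Algebra k K] {g : ℕ}

/-- A basis of `K` over the field generated by the independent elements `x`, read through polynomials. -/
structure IsPolyBasis (x : Fin g → K) {D : ℕ} (e : Fin D → K) : Prop where
  indep : ∀ P : Fin D → MvPolynomial (Fin g) k, ∑ j, aeval x (P j) * e j = 0 → ∀ j, P j = 0
  span : ∀ f : K, ∃ (h : MvPolynomial (Fin g) k) (P : Fin D → MvPolynomial (Fin g) k),
    h ≠ 0 ∧ aeval x h * f = ∑ j, aeval x (P j) * e j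

theorem IsPolyBasis.pos {x : Fin g → K} {D : ℕ} {e : Fin D → K} (he : IsPolyBasis (k := k) x e)
    (hx : AlgebraicIndependent k x) : 0 < D := by
  obtain ⟨h, P, hh, e1⟩ := he.span 1
  rcases Nat.eq_zero_or_pos D with rfl | hD
  · rw [Fintype.sum_empty, mul_one] at e1
    exact absurd ((map_eq_zero_iff _ hx).1 e1) hh
  · exact hD

/-- Common denominators. -/
theorem IsPolyBasis.span_finite {x : Fin g → K} {D : ℕ} {e : Fin D → K} (he : IsPolyBasis (k := k) x e)
    {s : ℕ} (r : Fin s → K) : ∃ (h : MvPolynomial (Fin g) k) (P : Fin s → Fin D → MvPolynomial (Fin g) k),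
      h ≠ 0 ∧ ∀ i, aeval x h * r i = ∑ j, aeval x (P i j) * e j := by
  choose h P hh hP using fun i => he.span (r i)
  refine ⟨∏ i, h i, fun i j => (∏ l ∈ Finset.univ.erase i, h l) * P i j,
    Finset.prod_ne_zero_iff.2 fun i _ => hh i, fun i => ?_⟩
  rw [← Finset.mul_prod_erase Finset.univ h (Finset.mem_univ i), map_mul, mul_comm (aeval x (h i)), mul_assoc,
    hP i, Finset.mul_sum]
  refine Finset.sum_congr rfl fun j _ => ?_
  rw [map_mul, mul_assoc]

/-- Polynomials of bounded degree times fixed vectors. -/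
noncomputable def polyMap (x : Fin g → K) {D : ℕ} (w : Fin D → K) (m : ℕ) :
    (Fin D → restrictTotalDegree (Fin g) k m) →ₗ[k] K :=
  ∑ j, (LinearMap.mulRight k (w j)).comp ((aeval x).toLinearMap.comp
    ((restrictTotalDegree (Fin g) k m).subtype.comp (LinearMap.proj j)))

theorem polyMap_apply (x : Fin g → K) {D : ℕ} (w : Fin D → K) (m : ℕ)
    (P : Fin D → restrictTotalDegree (Fin g) k m) :
    polyMap x w m P = ∑ j, aeval x (P j : MvPolynomial (Fin g) k) * w j := by
  simp [polyMap]

theorem finrank_range_le (x : Fin g → K) {D : ℕ} (w : Fin D → K) (m : ℕ) :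
    Module.finrank k (LinearMap.range (polyMap (k := k) x w m)) ≤ D * (m + g).choose g := by
  refine (LinearMap.finrank_range_le _).trans (le_of_eq ?_)
  rw [Module.finrank_pi_fintype]
  simp [finrank_restrictTotalDegree]

variable {n : ℕ} {x : Fin (n + 1) → K}

/-- Functions regular on the finite chart `R₀` with pole order at most `m` on the chart `R₁`. -/
def polesLE (R₀ R₁ : Subalgebra k K) (t : K) (m : ℕ) : Submodule k K :=
  R₀.toSubmodule ⊓ R₁.toSubmodule.comap (LinearMap.mulRight k (t ^ m)⁻¹)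

/-- The upper bound. -/
theorem exists_upper (hx : AlgebraicIndependent k x) {D : ℕ} {e : Fin D → K} (he : IsPolyBasis (k := k) x e)
    (R₀ R₁ : Subalgebra k K) {s : ℕ} (r : Fin s → K)
    (h₀ : ∀ f ∈ R₀, ∃ c : Fin s → MvPolynomial (Fin (n + 1)) k, f = ∑ i, aeval x (c i) * r i)
    {t : ℕ} (q : Fin t → K)
    (h₁ : ∀ f ∈ R₁, ∃ (d : ℕ) (c : Fin t → MvPolynomial (Fin (n + 1)) k),
      (∀ i, (c i).totalDegree ≤ d) ∧ f * x 0 ^ d = ∑ i, aeval x (c i) * q i) :
    ∃ b, ∀ m, ∃ w : Fin D → K, polesLE R₀ R₁ (x 0) m ≤ LinearMap.range (polyMap (k := k) x w (m + b)) := by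
  classical
  obtain ⟨h, P, hh, hP⟩ := he.span_finite r
  obtain ⟨v, U, hv, hU⟩ := he.span_finite q
  have hh' : aeval x h ≠ 0 := fun e => hh ((map_eq_zero_iff _ hx).1 e)
  have hx0 : x 0 ≠ 0 := hx.ne_zero 0
  let bU := Finset.univ.sup fun p : Fin t × Fin D => (U p.1 p.2).totalDegree
  refine ⟨h.totalDegree + bU, fun m => ⟨fun j => e j / aeval x h, fun f hf => ?_⟩⟩
  obtain ⟨hf0, hf1⟩ := hf
  obtain ⟨c, hc⟩ := h₀ f hf0
  obtain ⟨d, c', hc', hfc'⟩ := h₁ (f * (x 0 ^ m)⁻¹) hf1
  let Q : Fin D → MvPolynomial (Fin (n + 1)) k := fun j => ∑ i, c i * P i j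
  let W : Fin D → MvPolynomial (Fin (n + 1)) k := fun j => ∑ i, c' i * U i j
  have hQ : aeval x h * f = ∑ j, aeval x (Q j) * e j := by
    rw [hc, Finset.mul_sum]
    simp only [Q, map_sum, map_mul, Finset.sum_mul, mul_assoc]
    rw [Finset.sum_comm]
    refine Finset.sum_congr rfl fun i _ => ?_
    rw [← mul_assoc, mul_comm (aeval x h), mul_assoc, hP i, Finset.mul_sum]
  have hW : aeval x v * (f * (x 0 ^ m)⁻¹ * x 0 ^ d) = ∑ j, aeval x (W j) * e j := by
    rw [hfc', Finset.mul_sum]
    simp only [W, map_sum, map_mul, Finset.sum_mul, mul_assoc]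
    rw [Finset.sum_comm]
    refine Finset.sum_congr rfl fun i _ => ?_
    rw [← mul_assoc, mul_comm (aeval x v), mul_assoc, hU i, Finset.mul_sum]
  have hrel : ∀ j, v * MvPolynomial.X 0 ^ d * Q j = h * MvPolynomial.X 0 ^ m * W j := fun j => by
    refine sub_eq_zero.1 (he.indep (fun j => v * MvPolynomial.X 0 ^ d * Q j - h * MvPolynomial.X 0 ^ m * W j) ?_ j)
    simp only [map_sub, map_mul, map_pow, aeval_X, sub_mul, Finset.sum_sub_distrib, mul_assoc, ← Finset.mul_sum,
      ← hQ, ← hW]
    field_simp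
    ring
  have hdeg : ∀ j, Q j ∈ restrictTotalDegree (Fin (n + 1)) k (m + (h.totalDegree + bU)) := fun j => by
    rw [mem_restrictTotalDegree]
    by_cases hQ0 : Q j = 0
    · simp [hQ0]
    have h1 : (W j).totalDegree ≤ d + bU := (totalDegree_finsetSum_le fun i _ =>
      (totalDegree_mul _ _).trans (add_le_add (hc' i)
        (Finset.le_sup (f := fun p : Fin t × Fin D => (U p.1 p.2).totalDegree) (Finset.mem_univ (i, j)))))
    have h2 := congrArg totalDegree (hrel j)
    rw [totalDegree_mul_of_isDomain (mul_ne_zero hv (pow_ne_zero _ (X_ne_zero _))) hQ0,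
      totalDegree_mul_of_isDomain hv (pow_ne_zero _ (X_ne_zero _)), totalDegree_X_pow] at h2
    have h3 := (h2.trans_le (totalDegree_mul _ _)).trans (add_le_add (totalDegree_mul _ _) h1)
    rw [totalDegree_X_pow] at h3
    omega
  refine ⟨fun j => ⟨Q j, hdeg j⟩, ?_⟩
  rw [polyMap_apply]
  simp only [← mul_div_assoc, ← Finset.sum_div, ← hQ]
  rw [mul_div_cancel_left₀ _ hh']

/-- The lower bound. -/
theorem le_finrank_of_basis {x : Fin g → K} {D : ℕ} {e : Fin D → K} (he : IsPolyBasis (k := k) x e)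
    (W : Submodule k K) [Module.Finite k W] (m : ℕ)
    (hW : ∀ j (P : MvPolynomial (Fin g) k), P.totalDegree ≤ m → aeval x P * e j ∈ W) :
    D * (m + g).choose g ≤ Module.finrank k W := by
  classical
  have hinj : Function.Injective (polyMap (k := k) x e m) := (injective_iff_map_eq_zero _).2 fun P hP => by
    rw [polyMap_apply] at hP
    exact funext fun j => Subtype.ext (he.indep _ hP j)
  have hle : LinearMap.range (polyMap (k := k) x e m) ≤ W := by
    rintro _ ⟨P, rfl⟩
    rw [polyMap_apply]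
    exact Submodule.sum_mem _ fun j _ => hW j _ ((mem_restrictTotalDegree _ _ _).1 (P j).2)
  have h1 := Submodule.finrank_mono hle
  rw [LinearMap.finrank_range_of_inj hinj, Module.finrank_pi_fintype] at h1
  simpa [finrank_restrictTotalDegree] using h1

/-- Comparison of leading coefficients. -/
theorem le_of_mul_pow_le {A B c g : ℕ} (h : ∀ m : ℕ, A * m ^ g ≤ B * (m + c) ^ g) : A ≤ B := by
  have h1 : Filter.Tendsto (fun m : ℕ => (B : ℝ) * (1 + (c : ℝ) / m) ^ g) Filter.atTop (nhds B) := by
    have := (((tendsto_const_div_atTop_nhds_zero_nat (c : ℝ)).const_add 1).pow g).const_mul (B : ℝ)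
    simpa using this
  have h2 : (A : ℝ) ≤ B := ge_of_tendsto h1 (Filter.eventually_atTop.2 ⟨1, fun m hm => by
    have hm' : (0 : ℝ) < m := by exact_mod_cast hm
    have h3 : (A : ℝ) * (m : ℝ) ^ g ≤ (B : ℝ) * ((m : ℝ) + c) ^ g := by exact_mod_cast h m
    rw [one_add_div hm'.ne', div_pow, ← mul_div_assoc, le_div_iff₀ (by positivity)]
    exact h3⟩)
  exact_mod_cast h2

/-- Existence of a polynomial basis among the elements of a chart. -/
theorem exists_isPolyBasis (hx : AlgebraicIndependent k x) (R : Subalgebra k K) (hxR : ∀ i, x i ∈ R)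
    (hfrac : ∀ f : K, ∃ r ∈ R, ∃ a ∈ R, a ≠ 0 ∧ a * f = r) {s : ℕ} (r : Fin s → K)
    (hspan : ∀ f ∈ R, ∃ c : Fin s → MvPolynomial (Fin (n + 1)) k, f = ∑ i, aeval x (c i) * r i) :
    ∃ (D : ℕ) (e : Fin D → K), IsPolyBasis (k := k) x e ∧ ∀ j, e j ∈ R := by
  classical
  let F := IntermediateField.adjoin k (Set.range x)
  have hmemP : ∀ P : MvPolynomial (Fin (n + 1)) k, aeval x P ∈ F := fun P =>
    IntermediateField.algebra_adjoin_le_adjoin k _ (by
      rw [Algebra.adjoin_range_eq_range_aeval]; exact ⟨P, rfl⟩)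
  -- `R` lies in a finite dimensional subspace over `F`, closed under inverses
  let S : Submodule F K := Submodule.span F (Set.range r)
  have hRS : ∀ f ∈ R, f ∈ S := fun f hf => by
    obtain ⟨c, rfl⟩ := hspan f hf
    exact Submodule.sum_mem _ fun i _ => by
      exact Submodule.smul_mem S (⟨_, hmemP (c i)⟩ : F) (Submodule.subset_span ⟨i, rfl⟩)
  let S' : Submodule F K := Submodule.span F (R : Set K)
  haveI : Module.Finite F S := Module.Finite.span_of_finite F (Set.finite_range r)
  haveI hS' : Module.Finite F S' := Submodule.finiteDimensional_of_le (Submodule.span_le.2 hRS)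
  let AS : Subalgebra F K := Algebra.adjoin F (R : Set K)
  have hAS : AS.toSubmodule = S' := by
    rw [Algebra.adjoin_eq_span, show ((Submonoid.closure (R : Set K)) : Set K) = R from
      congrArg SetLike.coe (Submonoid.closure_eq R.toSubsemiring.toSubmonoid)]
  haveI : FiniteDimensional F AS := Module.Finite.equiv (LinearEquiv.ofEq _ _ hAS.symm)
  have htop : ∀ f : K, f ∈ S' := fun f => by
    obtain ⟨p, hp, a, ha, ha0, hf⟩ := hfrac f
    rw [← hAS, Subalgebra.mem_toSubmodule]
    have hinv : a⁻¹ ∈ AS := Subalgebra.inv_mem_of_algebraic AS (x := ⟨a, Algebra.subset_adjoin ha⟩)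
      ((IsIntegral.of_finite F (⟨a, Algebra.subset_adjoin ha⟩ : AS)).map AS.val).isAlgebraic
    have : f = a⁻¹ * p := by rw [← hf, ← mul_assoc, inv_mul_cancel₀ ha0, one_mul]
    rw [this]
    exact mul_mem hinv (Algebra.subset_adjoin hp)
  obtain ⟨b, hbR, hbs, hbi⟩ := exists_linearIndependent F (R : Set K)
  have hbtop : Submodule.span F b = ⊤ := by rw [hbs]; exact Submodule.eq_top_iff'.2 htop
  haveI : Finite b := by
    haveI : FiniteDimensional F K := Module.Finite.of_surjective S'.subtype fun f => ⟨⟨f, htop f⟩, rfl⟩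
    exact hbi.finite
  obtain ⟨D, ⟨eb⟩⟩ := Finite.exists_equiv_fin b
  let e : Fin D → K := fun j => (eb.symm j : K)
  refine ⟨D, e, ⟨fun P hP j => ?_, fun f => ?_⟩, fun j => hbR (eb.symm j).2⟩
  · have h1 := Fintype.linearIndependent_iff.1 (hbi.comp eb.symm eb.symm.injective)
      (fun j => (⟨_, hmemP (P j)⟩ : F)) hP j
    exact (map_eq_zero_iff _ hx).1 (congrArg Subtype.val h1)
  · have hf : f ∈ Submodule.span F (Set.range e) := by
      rw [show Set.range e = b from (eb.symm.surjective.range_comp (Subtype.val : b → K)).trans Subtype.range_coe,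
        hbtop]
      trivial
    obtain ⟨c, hc⟩ := (Submodule.mem_span_range_iff_exists_fun F).1 hf
    choose N Q hNQ using fun j => (IntermediateField.mem_adjoin_range_iff k x (c j : K)).1 (c j).2
    let Q' : Fin D → MvPolynomial (Fin (n + 1)) k := fun j => if Q j = 0 then 1 else Q j
    let N' : Fin D → MvPolynomial (Fin (n + 1)) k := fun j => if Q j = 0 then 0 else N j
    have hQ' : ∀ j, Q' j ≠ 0 := fun j => by simp only [Q']; split_ifs with h <;> simp [h]
    have hcN : ∀ j, (c j : K) * aeval x (Q' j) = aeval x (N' j) := fun j => by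
      simp only [Q', N', hNQ j]
      split_ifs with h
      · simp [h]
      · exact div_mul_cancel₀ _ fun e => h ((map_eq_zero_iff _ hx).1 e)
    refine ⟨∏ j, Q' j, fun j => (∏ l ∈ Finset.univ.erase j, Q' l) * N' j,
      Finset.prod_ne_zero_iff.2 fun j _ => hQ' j, ?_⟩
    rw [← hc, Finset.mul_sum]
    refine Finset.sum_congr rfl fun j _ => ?_
    rw [← Finset.mul_prod_erase Finset.univ Q' (Finset.mem_univ j), map_mul, map_mul, ← hcN j]
    show _ * ((c j : K) * e j) = _
    ring

end Groth.Agent.AVDegree22
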