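import Groth.Agent.Lib.AVDegree22.DegDet
import Groth.Agent.Lib.TateTors22.Minpoly
import Mathlib.LinearAlgebra.Lagrange
import Mathlib.LinearAlgebra.Charpoly.ToMatrix
import Mathlib.FieldTheory.IsAlgClosed.Spectrum
import Mathlib.RingTheory.Polynomial.GaussLemma

/-!
# The characteristic polynomial of an endomorphism of an abelian variety
-/

universe u

open CategoryTheory Limits AlgebraicGeometry MonoidalCategory CartesianMonoidalCategory MonObj
open Polynomial
open scoped GrpObj

set_option linter.style.haveILetI false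
set_option backward.isDefEq.respectTransparency false

namespace Groth.Agent.AVDegree22

variable {k : Type u} [Field k] {A : Over (Spec (CommRingCat.of k))}
  [GrpObj A] [IsCommMonObj A] [IsProper A.hom] [GeometricallyIntegral A.hom] [IsIntegral A.left]

open scoped Classical in
/-- The degree, with value zero on endomorphisms which are not finite. -/
noncomputable def deg0 (β : EndAV.End A) : ℤ := if IsFinite β.toHom.left then (deg β : ℤ) else 0

theorem deg0_of_finite {β : EndAV.End A} (h : IsFinite β.toHom.left) : deg0 β = deg β := if_pos h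

omit [IsCommMonObj A] in
theorem deg0_of_not_finite [IsCommMonObj A] {β : EndAV.End A} (h : ¬ IsFinite β.toHom.left) : deg0 β = 0 := if_neg h

variable (K : Type u) [Field K] [Algebra k K] [IsAlgClosed K] (l : ℕ) [Fact l.Prime]

theorem deg0_eq_det (hl : (l : k) ≠ 0) (β : EndAV.End A) :
    ((deg0 β : ℤ) : ℤ_[l]) = LinearMap.det (EndAV.End.tateRep l (SGA7.pt (K := k) K) β) := by
  by_cases h : IsFinite β.toHom.left
  · rw [deg0_of_finite h, Int.cast_natCast, deg_eq_det K l hl β h]
    rfl
  · rw [deg0_of_not_finite h, Int.cast_zero]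
    exact (det_eq_zero_of_not_isFinite K l hl β h).symm

variable {K l}

/-- The characteristic polynomial at an integer is the degree of the translate. -/
theorem charpoly_eval_int (hl : (l : k) ≠ 0) [Module.Free ℤ_[l] (AbDual.TateMod A l (SGA7.pt (K := k) K))]
    [Module.Finite ℤ_[l] (AbDual.TateMod A l (SGA7.pt (K := k) K))] (α : EndAV.End A) (n : ℤ) :
    (EndAV.End.tateRep l (SGA7.pt (K := k) K) α).charpoly.eval (n : ℤ_[l]) = ((deg0 (α - (n : EndAV.End A)) : ℤ) : ℤ_[l]) := by
  obtain ⟨g, hg⟩ : ∃ g : ℕ, topologicalKrullDim A.left = g := ⟨_, VarDim.dim_eq_sdim_genericPoint A.hom⟩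
  have hrank := TateTors22.finrank_tateMod (A := A) K l hl hg
  let b := Module.finBasisOfFinrankEq ℤ_[l] (AbDual.TateMod A l (SGA7.pt (K := k) K)) hrank
  rw [deg0_eq_det K l hl, map_sub, map_intCast, ← LinearMap.charpoly_toMatrix _ b, Matrix.eval_charpoly,
    ← LinearMap.det_toMatrix b, show (LinearMap.toMatrix b b) ((EndAV.End.tateRep l (SGA7.pt (K := k) K)) α -
        (n : Module.End ℤ_[l] (AbDual.TateMod A l (SGA7.pt (K := k) K)))) =
      -(Matrix.scalar (Fin (2 * g)) (n : ℤ_[l]) - LinearMap.toMatrix b b (EndAV.End.tateRep l (SGA7.pt (K := k) K) α)) by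
      rw [neg_sub, map_sub]
      congr 1
      show LinearMap.toMatrixAlgEquiv b (n : Module.End ℤ_[l] (AbDual.TateMod A l (SGA7.pt (K := k) K))) = _
      rw [map_intCast]
      simp, Matrix.det_neg, Fintype.card_fin, pow_mul, neg_one_sq, _root_.one_pow, _root_.one_mul]

/-- The characteristic polynomial on the Tate module has integer coefficients. -/
theorem exists_int_charpoly (hl : (l : k) ≠ 0) [Module.Free ℤ_[l] (AbDual.TateMod A l (SGA7.pt (K := k) K))]
    [Module.Finite ℤ_[l] (AbDual.TateMod A l (SGA7.pt (K := k) K))] {g : ℕ} (hg : topologicalKrullDim A.left = g)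
    (α : EndAV.End A) :
    ∃ P : ℤ[X], P.Monic ∧ P.natDegree = 2 * g ∧ (∀ n : ℤ, P.eval n = deg0 (α - (n : EndAV.End A))) ∧
      (EndAV.End.tateRep l (SGA7.pt (K := k) K) α).charpoly = P.map (Int.castRingHom ℤ_[l]) := by
  classical
  set e := EndAV.End.tateRep l (SGA7.pt (K := k) K) α with he
  set C₀ := e.charpoly with hC₀
  have hC₀deg : C₀.natDegree = 2 * g := by
    rw [hC₀, LinearMap.charpoly_natDegree, TateTors22.finrank_tateMod (A := A) K l hl hg]
  have hC₀m : C₀.Monic := e.charpoly_monic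
  let φ := algebraMap ℤ_[l] ℚ_[l]
  let ψ := algebraMap ℚ ℚ_[l]
  have hφ : Function.Injective φ := FaithfulSMul.algebraMap_injective ℤ_[l] ℚ_[l]
  let s : Finset ℕ := Finset.range (2 * g + 1)
  let Pq : ℚ[X] := Lagrange.interpolate s (fun i : ℕ => (i : ℚ)) fun i => ((deg0 (α - ((i : ℤ) : EndAV.End A)) : ℤ) : ℚ)
  have hinj : Set.InjOn (fun i : ℕ => (i : ℚ)) s := Nat.cast_injective.injOn
  have hPmap : Pq.map ψ = C₀.map φ := by
    refine eq_of_degrees_lt_of_eval_index_eq (s := s) (v := fun i : ℕ => (i : ℚ_[l])) Nat.cast_injective.injOn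
      (degree_map_le.trans_lt (Lagrange.degree_interpolate_lt _ hinj)) ?_ fun i hi => ?_
    · refine degree_map_le.trans_lt ?_
      rw [degree_eq_natDegree hC₀m.ne_zero, hC₀deg, Finset.card_range]
      exact_mod_cast Nat.lt_succ_self _
    · show (Pq.map ψ).eval (i : ℚ_[l]) = (C₀.map φ).eval (i : ℚ_[l])
      rw [← map_natCast ψ i, eval_map_apply, Lagrange.eval_interpolate_at_node _ hinj hi, map_intCast, map_natCast,
        ← map_natCast φ i, eval_map_apply, ← Int.cast_natCast (R := ℤ_[l]), hC₀, charpoly_eval_int hl, map_intCast]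
  have hPm : Pq.Monic := monic_of_injective ψ.injective (hPmap ▸ hC₀m.map φ)
  -- integrality
  obtain ⟨Q, hQm, hQ⟩ := TateTors22.exists_monic_int_minpoly (A := A) K l hl α
  have hQe : aeval e (Q.map (Int.castRingHom ℤ_[l])) = 0 := by rw [← hQ]; exact minpoly.aeval _ _
  let b := Module.Free.chooseBasis ℤ_[l] (AbDual.TateMod A l (SGA7.pt (K := k) K))
  let N := LinearMap.toMatrixAlgEquiv b e
  let L := AlgebraicClosure ℚ_[l]
  let NL := N.map (algebraMap ℤ_[l] L)
  have hNL : NL.charpoly = C₀.map (algebraMap ℤ_[l] L) := by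
    rw [Matrix.charpoly_map, hC₀]
    exact congrArg _ (LinearMap.charpoly_toMatrix e b)
  have hQN : aeval NL (Q.map (Int.castRingHom L)) = 0 := by
    have h1 := congrArg (Algebra.ofId ℤ_[l] L).mapMatrix (aeval_algHom_apply
      (LinearMap.toMatrixAlgEquiv b).toAlgHom e (Q.map (Int.castRingHom ℤ_[l])))
    rw [hQe, map_zero, map_zero, ← aeval_algHom_apply] at h1
    rw [show Int.castRingHom L = (algebraMap ℤ_[l] L).comp (Int.castRingHom ℤ_[l]) from RingHom.ext_int _ _,
      ← Polynomial.map_map, aeval_map_algebraMap]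
    exact h1
  have hroot : ∀ a ∈ NL.charpoly.roots, (Q.map (Int.castRingHom L)).eval a = 0 := fun a ha => by
    rcases isEmpty_or_nonempty (Module.Free.ChooseBasisIndex ℤ_[l] (AbDual.TateMod A l (SGA7.pt (K := k) K))) with
      hι | hι
    · rw [Matrix.charpoly_isEmpty, roots_one] at ha
      exact absurd ha (Multiset.notMem_zero a)
    rw [mem_roots (Matrix.charpoly_monic NL).ne_zero, ← Matrix.mem_spectrum_iff_isRoot_charpoly] at ha
    have h1 := spectrum.subset_polynomial_aeval NL (Q.map (Int.castRingHom L)) ⟨a, ha, rfl⟩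
    rw [hQN, spectrum.zero_eq] at h1
    exact h1
  have hdvdL : NL.charpoly ∣ (Q.map (Int.castRingHom L)) ^ NL.charpoly.roots.card := by
    conv_lhs => rw [(IsAlgClosed.splits _).eq_prod_roots_of_monic (Matrix.charpoly_monic NL)]
    rw [← Multiset.prod_replicate, ← Multiset.map_const']
    exact Multiset.prod_dvd_prod_of_dvd _ _ fun a ha => dvd_iff_isRoot.2 (hroot a ha)
  have hdvd : Pq ∣ (Q ^ NL.charpoly.roots.card).map (algebraMap ℤ ℚ) := by
    refine (map_dvd_map' ((algebraMap ℚ_[l] L).comp ψ)).1 ?_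
    rw [← Polynomial.map_map, hPmap, Polynomial.map_map, ← IsScalarTower.algebraMap_eq, ← hNL, Polynomial.map_map,
      Polynomial.map_pow, RingHom.ext_int (((algebraMap ℚ_[l] L).comp ψ).comp (algebraMap ℤ ℚ)) (Int.castRingHom L)]
    exact hdvdL
  obtain ⟨P, hP⟩ := IsIntegrallyClosed.eq_map_mul_C_of_dvd ℚ (hQm.pow _) hdvd
  rw [hPm.leadingCoeff, C_1, _root_.mul_one] at hP
  have hPinj : Function.Injective (algebraMap ℤ ℚ) := (algebraMap ℤ ℚ).injective_int
  have hPC : C₀ = P.map (Int.castRingHom ℤ_[l]) := by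
    apply map_injective φ hφ
    rw [← hPmap, ← hP, Polynomial.map_map, Polynomial.map_map]
    congr 1
  have hPmonic : P.Monic := monic_of_injective hPinj (hP.symm ▸ hPm)
  refine ⟨P, hPmonic, ?_, fun n => ?_, hPC⟩
  · rw [← hC₀deg, hPC, hPmonic.natDegree_map]
  · have h1 : C₀.eval (n : ℤ_[l]) = ((deg0 (α - (n : EndAV.End A)) : ℤ) : ℤ_[l]) := charpoly_eval_int hl α n
    rw [hPC, ← eq_intCast (Int.castRingHom ℤ_[l]) n, eval_map_apply, eq_intCast] at h1
    exact Int.cast_injective h1

/-- A polynomial with the degrees as values is the characteristic polynomial. -/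
theorem charpoly_eq_map_of_eval (hl : (l : k) ≠ 0) [Module.Free ℤ_[l] (AbDual.TateMod A l (SGA7.pt (K := k) K))]
    [Module.Finite ℤ_[l] (AbDual.TateMod A l (SGA7.pt (K := k) K))] (α : EndAV.End A) (P : ℤ[X])
    (hP : ∀ n : ℤ, P.eval n = deg0 (α - (n : EndAV.End A))) :
    (EndAV.End.tateRep l (SGA7.pt (K := k) K) α).charpoly = P.map (Int.castRingHom ℤ_[l]) := by
  refine eq_of_infinite_eval_eq _ _ (Set.infinite_of_injective_forall_mem Int.cast_injective fun n => ?_)
  show Polynomial.eval ((n : ℤ) : ℤ_[l]) _ = Polynomial.eval ((n : ℤ) : ℤ_[l]) _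
  rw [charpoly_eval_int hl, ← hP n, ← eq_intCast (Int.castRingHom ℤ_[l]), ← eq_intCast (Int.castRingHom ℤ_[l]) n,
    eval_map_apply]

omit [IsCommMonObj A] in
theorem exists_prime_ne_zero (k : Type u) [Field k] : ∃ l : ℕ, l.Prime ∧ (l : k) ≠ 0 := by
  obtain ⟨p, hp⟩ := CharP.exists k
  obtain ⟨l, hle, hl⟩ := Nat.exists_infinite_primes (p + 1)
  refine ⟨l, hl, fun h => ?_⟩
  have hdvd := (CharP.cast_eq_zero_iff k p l).1 h
  rcases Nat.eq_zero_or_pos p with rfl | hp0
  · exact hl.ne_zero (Nat.eq_zero_of_zero_dvd hdvd)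
  · rcases hl.eq_one_or_self_of_dvd p hdvd with h1 | h1
    · exact absurd h1 (CharP.char_ne_one k p)
    · omega

/-- Every endomorphism has an integral characteristic polynomial of degree `2 g`. -/
theorem exists_degree_polynomial {g : ℕ} (hg : topologicalKrullDim A.left = g) (α : EndAV.End A) :
    ∃ P : ℤ[X], P.Monic ∧ P.natDegree = 2 * g ∧ ∀ n : ℤ, P.eval n = deg0 (α - (n : EndAV.End A)) := by
  obtain ⟨l, hlp, hl⟩ := exists_prime_ne_zero k
  haveI := Fact.mk hlp
  haveI := TateTors22.free_tateMod (A := A) (AlgebraicClosure k) l hl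
  haveI := TateTors22.finite_tateMod (A := A) (AlgebraicClosure k) l hl
  obtain ⟨P, h1, h2, h3, -⟩ := exists_int_charpoly (K := AlgebraicClosure k) hl hg α
  exact ⟨P, h1, h2, h3⟩

/-- The translate by an integer, as a morphism. -/
theorem toHom_sub_intCast (α : EndAV.End A) (n : ℤ) :
    (α - (n : EndAV.End A)).toHom = α.toHom * 𝟙 A ^ (-n) := by
  rw [EndAV.End.toHom_sub, EndAV.End.toHom_intCast, div_eq_mul_inv, zpow_neg]

/-- The two clauses used in the statements amount to the value of `deg0`. -/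
theorem clauses_iff (β : EndAV.End A) {R : Type*} [Ring R] (v : R) :
    ((IsFinite β.toHom.left → ∀ a : A.left, (Scheme.Hom.finrank β.toHom.left a : R) = v) ∧
      (¬ IsFinite β.toHom.left → v = 0)) ↔ ((deg0 β : ℤ) : R) = v := by
  by_cases h : IsFinite β.toHom.left
  · haveI := h
    rw [deg0_of_finite h, Int.cast_natCast]
    refine ⟨fun h' => (h'.1 h (genericPoint A.left)), fun h' => ⟨fun _ a => by rw [finrank_eq_deg β a]; exact h',
      fun hn => absurd h hn⟩⟩
  · rw [deg0_of_not_finite h, Int.cast_zero]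
    exact ⟨fun h' => (h'.2 h).symm, fun h' => ⟨fun hf => absurd hf h, fun _ => h'.symm⟩⟩

end Groth.Agent.AVDegree22
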