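import Mathlib.RingTheory.MvPolynomial.Basic
import Mathlib.Algebra.MvPolynomial.NoZeroDivisors
import Mathlib.Data.Sym.Card
import Mathlib.Data.Nat.Choose.Bounds
import Mathlib.Algebra.BigOperators.Option
import Mathlib.Algebra.MvPolynomial.Basic
import Mathlib.Data.Finsupp.Multiset
import Mathlib.LinearAlgebra.Dimension.StrongRankCondition
import Mathlib.LinearAlgebra.Dimension.Constructions

/-!
# Polynomials of bounded total degree
-/

open MvPolynomial

namespace Groth.Agent.AVDegree22

variable (k : Type*) [Field k] (g : ℕ)

/-- The dimension of the polynomials of degree at most `m` in `g` variables. -/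
theorem finrank_restrictTotalDegree (m : ℕ) :
    Module.finrank k (restrictTotalDegree (Fin g) k m) = (m + g).choose g := by
  classical
  let e : ↥{n : Fin g →₀ ℕ | (n.sum fun _ e => e) ≤ m} ≃ {P : Option (Fin g) → ℕ // ∑ i, P i = m} :=
    { toFun := fun n => ⟨fun o => o.elim (m - ∑ i, n.1 i) fun i => n.1 i, by
        have h := n.2
        change (n.1.sum fun _ e => e) ≤ m at h
        rw [Finsupp.sum_fintype _ _ fun _ => rfl] at h
        rw [Fintype.sum_option]
        simp only [Option.elim]
        omega⟩
      invFun := fun P => ⟨Finsupp.equivFunOnFinite.symm fun i => P.1 (some i), by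
        have h := P.2
        rw [Fintype.sum_option] at h
        show (Finsupp.sum _ fun _ e => e) ≤ m
        rw [Finsupp.sum_fintype _ _ fun _ => rfl]
        simp only [Finsupp.equivFunOnFinite_symm_apply_apply]
        omega⟩
      left_inv := fun n => Subtype.ext (Finsupp.ext fun i => by simp)
      right_inv := fun P => Subtype.ext (funext fun o => by
        have h := P.2
        rw [Fintype.sum_option] at h
        cases o with
        | none => simp; omega
        | some i => simp) }
  have e' := e.trans (Sym.equivNatSumOfFintype (Option (Fin g)) m).symm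
  haveI : Fintype ↥{n : Fin g →₀ ℕ | (n.sum fun _ e => e) ≤ m} := Fintype.ofEquiv _ e'.symm
  rw [show restrictTotalDegree (Fin g) k m = restrictSupport k {n | (n.sum fun _ e => e) ≤ m} from rfl,
    Module.finrank_eq_card_basis (basisRestrictSupport k _), Fintype.card_congr e', Sym.card_sym_eq_choose,
    Fintype.card_option, Fintype.card_fin, show g + 1 + m - 1 = m + g by omega, Nat.choose_symm_add]

theorem pow_le_choose_mul (m : ℕ) : m ^ g ≤ (m + g).choose g * g.factorial := by
  rw [mul_comm, ← Nat.descFactorial_eq_factorial_mul_choose]
  exact le_trans (Nat.pow_le_pow_left (by omega) g) (Nat.pow_sub_le_descFactorial (m + g) g)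

theorem choose_mul_le_pow (m : ℕ) : (m + g).choose g * g.factorial ≤ (m + g) ^ g := by
  rw [mul_comm, ← Nat.descFactorial_eq_factorial_mul_choose]
  exact Nat.descFactorial_le_pow _ _

end Groth.Agent.AVDegree22
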