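import Groth.Agent.Lib.AVDegree22.Degree
import Mathlib.AlgebraicGeometry.Morphisms.FlatRank
import Mathlib.LinearAlgebra.Dimension.Localization
import Mathlib.RingTheory.Artinian.Module
import Mathlib.RingTheory.Nilpotent.Lemmas
import Mathlib.FieldTheory.IsAlgClosed.Basic
import Mathlib.RingTheory.Unramified.Field
import Mathlib.AlgebraicGeometry.Morphisms.Etale
import Mathlib.RingTheory.Etale.Basic

/-!
# The degree as the number of points of a fibre
-/

universe u

open CategoryTheory AlgebraicGeometry TopologicalSpace Limits

set_option backward.isDefEq.respectTransparency false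
set_option linter.style.haveILetI false

namespace Groth.Agent.AVDegree22

/-- The rank at the generic point of a finite extension of domains is the degree of the fraction fields. -/
theorem rankAtStalk_bot {R S K L : Type u} [CommRing R] [IsDomain R] [CommRing S] [Algebra R S] [Field K] [Field L]
    [Algebra R K] [IsFractionRing R K] [Algebra S L] [IsFractionRing S L] [Algebra K L] [Algebra R L]
    [IsScalarTower R K L] [IsScalarTower R S L] :
    Module.rankAtStalk S (⊥ : PrimeSpectrum R) = Module.finrank K L := by
  let p := (⊥ : PrimeSpectrum R)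
  have hp : p.asIdeal.primeCompl ≤ nonZeroDivisors R := fun x hx =>
    mem_nonZeroDivisors_of_ne_zero fun e => hx (e ▸ zero_mem _)
  rw [IsFractionRing.finrank_eq R K S L]
  exact (IsLocalization.finrank_eq (Localization.AtPrime p.asIdeal) p.asIdeal.primeCompl hp).trans
    (IsLocalizedModule.finrank_eq p.asIdeal.primeCompl
      (LocalizedModule.mkLinearMap p.asIdeal.primeCompl S) hp)

variable {k : Type u} [Field k] {X Y : Over (Spec (CommRingCat.of k))} [IsIntegral X.left] [IsIntegral Y.left]
  (f : Y ⟶ X) [IsDominant f.left] [IsFinite f.left] [Flat f.left]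

theorem finrank_genericPoint : f.left.finrank (genericPoint X.left) = fieldDeg f := by
  obtain ⟨U, hU, hηU, -⟩ := exists_isAffineOpen_mem_and_subset (U := (⊤ : X.left.Opens))
    (x := genericPoint X.left) trivial
  let V := f.left ⁻¹ᵁ U
  have hV : IsAffineOpen V := hU.preimage f.left
  haveI : Nonempty U := ⟨⟨_, hηU⟩⟩
  have hηV : genericPoint Y.left ∈ V := show f.left (genericPoint Y.left) ∈ U from (map_generic f).symm ▸ hηU
  haveI : Nonempty V := ⟨⟨_, hηV⟩⟩
  let φ := f.left.app U
  have happ : f.left.appLE U V le_rfl = φ := f.left.appLE_eq_app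
  have hsq : IsPullback hV.fromSpec (Spec.map φ) f.left hU.fromSpec := by
    refine (IsOpenImmersion.isPullback (Spec.map φ) hV.fromSpec hU.fromSpec f.left ?_ ?_).flip
    · rw [← happ]
      exact (hU.SpecMap_appLE_fromSpec f.left hV le_rfl).symm
    · rw [hU.opensRange_fromSpec, hV.opensRange_fromSpec]
  let p := hU.primeIdealOf ⟨_, hηU⟩
  have hp : p = (⊥ : PrimeSpectrum Γ(X.left, U)) := by
    rw [show p = genericPoint (Spec Γ(X.left, U)) from hU.primeIdealOf_genericPoint, genericPoint_eq_bot_of_affine]
  have h1 := Scheme.Hom.finrank_of_isPullback _ _ _ _ hsq p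
  rw [hU.fromSpec_primeIdealOf] at h1
  rw [← h1, hp]
  haveI : IsFinite (Spec.map φ) := MorphismProperty.of_isPullback hsq inferInstance
  haveI : Flat (Spec.map φ) := MorphismProperty.of_isPullback hsq inferInstance
  rw [Scheme.Hom.finrank_SpecMap_eq_finrank ((IsFinite.SpecMap_iff φ).1 inferInstance)
    (Flat.SpecMap_iff.1 inferInstance)]
  letI : Algebra Γ(X.left, U) Γ(Y.left, V) := φ.hom.toAlgebra
  show Module.rankAtStalk Γ(Y.left, V) (⊥ : PrimeSpectrum Γ(X.left, U)) = _
  haveI := functionField_isFractionRing_of_isAffineOpen X.left U hU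
  haveI := functionField_isFractionRing_of_isAffineOpen Y.left V hV
  letI : Algebra X.left.functionField Y.left.functionField := (fieldMap f).toRingHom.toAlgebra
  letI : Algebra Γ(X.left, U) Y.left.functionField :=
    ((algebraMap X.left.functionField Y.left.functionField).comp (algebraMap Γ(X.left, U) X.left.functionField)).toAlgebra
  haveI : IsScalarTower Γ(X.left, U) X.left.functionField Y.left.functionField :=
    IsScalarTower.of_algebraMap_eq fun _ => rfl
  haveI : IsScalarTower Γ(X.left, U) Γ(Y.left, V) Y.left.functionField :=
    IsScalarTower.of_algebraMap_eq fun a => fieldMap_val f hηU a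
  rw [rankAtStalk_bot (K := X.left.functionField) (L := Y.left.functionField), fieldDeg]
  let e : X.left.functionField ≃+* (fieldMap f).fieldRange :=
    RingEquiv.ofBijective ((fieldMap f).toRingHom.codRestrict (fieldMap f).fieldRange fun a => ⟨a, rfl⟩)
      ⟨fun a b h => (fieldMap f).injective (congrArg Subtype.val h), fun ⟨_, a, rfl⟩ => ⟨a, rfl⟩⟩
  exact Algebra.finrank_eq_of_equiv_equiv e (RingEquiv.refl _) (by ext a; rfl)

omit [IsIntegral Y.left] [IsDominant f.left] in
theorem finrank_eq_genericPoint [LocallyOfFinitePresentation f.left] (x : X.left) :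
    f.left.finrank x = f.left.finrank (genericPoint X.left) :=
  (f.left.isLocallyConstant_finrank).apply_eq_of_isPreconnected isPreconnected_univ trivial trivial

/-- A reduced finite algebra over an algebraically closed field has as many points as dimensions. -/
theorem card_algHom_eq_finrank [IsAlgClosed k] (R : Type u) [CommRing R] [Algebra k R] [Module.Finite k R]
    [IsReduced R] : Nat.card (R →ₐ[k] k) = Module.finrank k R := by
  haveI : IsArtinianRing R := IsArtinianRing.of_finite k R
  haveI := Fintype.ofFinite (R →ₐ[k] k)
  let F : R →ₗ[k] ((R →ₐ[k] k) → k) := LinearMap.pi fun g => g.toLinearMap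
  have hF : Function.Injective F := by
    refine (injective_iff_map_eq_zero F).2 fun r hr => ?_
    have hnil : r ∈ nilradical R := by
      rw [nilradical_eq_sInf, Ideal.mem_sInf]
      intro P hP
      haveI : P.IsPrime := hP
      haveI : P.IsMaximal := IsArtinianRing.isMaximal_of_isPrime P
      letI : Field (R ⧸ P) := Ideal.Quotient.field P
      haveI : Algebra.IsIntegral k (R ⧸ P) := Algebra.IsIntegral.of_finite k _
      let e := (AlgEquiv.ofBijective (Algebra.ofId k (R ⧸ P))
        (IsAlgClosed.algebraMap_bijective_of_isIntegral)).symm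
      have h1 := congrFun hr (e.toAlgHom.comp (Ideal.Quotient.mkₐ k P))
      exact Ideal.Quotient.eq_zero_iff_mem.1 ((map_eq_zero_iff e e.injective).1 h1)
    rwa [nilradical_eq_bot_iff.2 inferInstance] at hnil
  have h1 := LinearMap.finrank_le_finrank_of_injective hF
  have h2 := (linearIndependent_algHom_toLinearMap k R k).fintype_card_le_finrank
  rw [Module.finrank_fintype_fun_eq_card] at h1
  rw [Module.finrank_linearMap_self] at h2
  rw [Nat.card_eq_fintype_card]
  omega

/-- Geometric points of a finite étale scheme. -/
theorem card_points (K : Type u) [Field K] [Algebra k K] [IsAlgClosed K] (N : Over (Spec (CommRingCat.of k)))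
    [IsFinite N.hom] [Etale N.hom] :
    Nat.card (Over.mk (Spec.map (CommRingCat.ofHom (algebraMap k K))) ⟶ N) =
      N.hom.finrank (IsLocalRing.closedPoint k) := by
  haveI : IsAffine N.left := isAffine_of_isAffineHom N.hom
  let R := Γ(N.left, ⊤)
  let φ : CommRingCat.of k ⟶ R := Spec.preimage (N.left.isoSpec.inv ≫ N.hom)
  have hφ : Spec.map φ = N.left.isoSpec.inv ≫ N.hom := Spec.map_preimage _
  letI : Algebra k R := φ.hom.toAlgebra
  have hfin : IsFinite (Spec.map φ) := by rw [hφ]; infer_instance
  rw [IsFinite.SpecMap_iff] at hfin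
  haveI : Module.Finite k R := hfin
  have het : Etale (Spec.map φ) := by rw [hφ]; infer_instance
  rw [HasRingHomProperty.Spec_iff (P := @Etale)] at het
  haveI : Algebra.Etale k R := het
  haveI : IsReduced (TensorProduct k K R) :=
    Algebra.FormallyUnramified.isReduced_of_field K (TensorProduct k K R)
  have hrank : N.hom.finrank (IsLocalRing.closedPoint k) = Module.finrank k R := by
    rw [← Scheme.Hom.finrank_comp_left_of_isIso N.left.isoSpec.inv N.hom, ← hφ,
      show φ = CommRingCat.ofHom (algebraMap k R) from rfl]
    exact (Scheme.Hom.finrank_SpecMap_algebraMap k R _).trans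
      (congrFun (Module.rankAtStalk_eq_finrank_of_free (R := k) (M := R)) _)
  rw [hrank, ← Module.finrank_baseChange (R := K), ← card_algHom_eq_finrank (k := K) (TensorProduct k K R)]
  refine (Nat.card_congr ?_).trans (Nat.card_congr (Algebra.TensorProduct.liftEquivRight k K R K))
  exact
    { toFun := fun y => AlgHom.mk (Spec.preimage (y.left ≫ N.left.isoSpec.hom)).hom fun c => by
        have h : φ ≫ Spec.preimage (y.left ≫ N.left.isoSpec.hom) = CommRingCat.ofHom (algebraMap k K) := by
          apply Spec.map_injective
          rw [Spec.map_comp, Spec.map_preimage, hφ, Category.assoc, Iso.hom_inv_id_assoc]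
          exact Over.w y
        exact congrArg (fun r : CommRingCat.of k ⟶ CommRingCat.of K => r.hom c) h
      invFun := fun g => Over.homMk (Spec.map (CommRingCat.ofHom g.toRingHom) ≫ N.left.isoSpec.inv) (by
        show (Spec.map (CommRingCat.ofHom g.toRingHom) ≫ N.left.isoSpec.inv) ≫ N.hom = _
        rw [Category.assoc, ← hφ, ← Spec.map_comp]
        congr 1
        ext c
        exact g.commutes c)
      left_inv := fun y => by
        ext1
        show Spec.map (Spec.preimage (y.left ≫ N.left.isoSpec.hom)) ≫ N.left.isoSpec.inv = y.left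
        rw [Spec.map_preimage, Category.assoc, Iso.hom_inv_id, Category.comp_id]
      right_inv := fun g => by
        refine AlgHom.ext fun r => ?_
        show (Spec.preimage ((Spec.map (CommRingCat.ofHom g.toRingHom) ≫ N.left.isoSpec.inv) ≫
          N.left.isoSpec.hom)).hom r = g r
        rw [Category.assoc, Iso.inv_hom_id, Category.comp_id, Spec.preimage_map]
        rfl }

end Groth.Agent.AVDegree22
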