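import Groth.Agent.Lib.AVDegree22.Algebra
import Mathlib.RingTheory.Finiteness.Basic
import Mathlib.RingTheory.AlgebraTower

/-!
# Growth of the sections attached to a system of charts in a field
-/

universe u v

open MvPolynomial

namespace Groth.Agent.AVDegree22

variable (k : Type u) [Field k] (K : Type v) [Field K] [Algebra k K] (n : ℕ)

/-- The algebra of ratios of the chart `i`. -/
noncomputable abbrev ratios (X : Fin (n + 2) → K) (i : Fin (n + 2)) : Subalgebra k K :=
  Algebra.adjoin k (Set.range fun l => X l / X i)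

/-- The homogeneous coordinates and chart algebras of a polarised projective variety, read in its function field. -/
structure Charts where
  X : Fin (n + 2) → K
  R : Fin (n + 2) → Subalgebra k K
  X_zero : X 0 = 1
  mem : ∀ i l, X l / X i ∈ R i
  overlap : ∀ i, ∀ f ∈ R 0, ∃ a : ℕ, f / X i ^ a ∈ R i
  indep : AlgebraicIndependent k fun l : Fin (n + 1) => X l.succ
  finite : ∀ i, ∃ S : Finset K, ∀ f ∈ R i, ∃ c : K → K, (∀ z, c z ∈ ratios k K n X i) ∧ f = ∑ z ∈ S, c z * z
  frac : ∀ f : K, ∃ r ∈ R 0, ∃ a ∈ R 0, a ≠ 0 ∧ a * f = r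

variable {k K n}

namespace Charts

variable (C : Charts k K n)

/-- The affine coordinates. -/
def x (l : Fin (n + 1)) : K := C.X l.succ

/-- The sections of the `m`th power. -/
def V (m : ℕ) : Submodule k K := ⨅ i, (C.R i).toSubmodule.comap (LinearMap.mulRight k (C.X i ^ m)⁻¹)

theorem mem_V {m : ℕ} {f : K} : f ∈ C.V m ↔ ∀ i, f / C.X i ^ m ∈ C.R i := by
  simp [V, Submodule.mem_iInf, Subalgebra.mem_toSubmodule, LinearMap.mulRight_apply, div_eq_mul_inv]

theorem ne_zero (i : Fin (n + 2)) : C.X i ≠ 0 := by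
  cases i using Fin.cases with
  | zero => rw [C.X_zero]; exact one_ne_zero
  | succ l => exact C.indep.ne_zero l

theorem mem_zero_of_V {m : ℕ} {f : K} (hf : f ∈ C.V m) : f ∈ C.R 0 := by
  have := (C.mem_V.1 hf) 0
  rwa [C.X_zero, one_pow, div_one] at this

theorem ratios_zero : ratios k K n C.X 0 = (aeval (R := k) C.x).range := by
  rw [← Algebra.adjoin_range_eq_range_aeval]
  refine le_antisymm (Algebra.adjoin_le ?_) (Algebra.adjoin_le ?_)
  · rintro _ ⟨l, rfl⟩
    cases l using Fin.cases with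
    | zero =>
      simp only [C.X_zero, div_one]
      exact one_mem _
    | succ l =>
      simp only [C.X_zero, div_one]
      exact Algebra.subset_adjoin ⟨l, rfl⟩
  · rintro _ ⟨l, rfl⟩
    exact Algebra.subset_adjoin ⟨l.succ, by simp only [C.X_zero, div_one]; rfl⟩

/-- Elements of the ratios of the chart at infinity are polynomials over a power of the coordinate. -/
theorem exists_of_ratios_one {f : K} (hf : f ∈ ratios k K n C.X 1) :
    ∃ (d : ℕ) (P : MvPolynomial (Fin (n + 1)) k), P.totalDegree ≤ d ∧ f * C.x 0 ^ d = aeval C.x P := by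
  have h1 : C.X 1 = C.x 0 := rfl
  induction hf using Algebra.adjoin_induction with
  | mem z hz =>
    obtain ⟨l, rfl⟩ := hz
    cases l using Fin.cases with
    | zero => exact ⟨1, 1, by simp, by
        simp only [pow_one, map_one, h1]
        rw [C.X_zero, one_div]
        exact inv_mul_cancel₀ (C.indep.ne_zero 0)⟩
    | succ l =>
      refine ⟨1, MvPolynomial.X l, by simp [totalDegree_X], ?_⟩
      rw [pow_one, h1, aeval_X]
      exact div_mul_cancel₀ _ (C.indep.ne_zero 0)
  | algebraMap c => exact ⟨0, MvPolynomial.C c, by simp, by simp⟩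
  | add a b _ _ ha hb =>
    obtain ⟨d, P, hP, e⟩ := ha
    obtain ⟨d', P', hP', e'⟩ := hb
    refine ⟨d + d', MvPolynomial.X 0 ^ d' * P + MvPolynomial.X 0 ^ d * P', ?_, ?_⟩
    · refine (totalDegree_add _ _).trans (max_le ?_ ?_) <;>
        refine (totalDegree_mul _ _).trans ?_ <;> rw [totalDegree_X_pow] <;> omega
    · rw [map_add, map_mul, map_mul, map_pow, map_pow, aeval_X, ← e, ← e']
      ring
  | mul a b _ _ ha hb =>
    obtain ⟨d, P, hP, e⟩ := ha
    obtain ⟨d', P', hP', e'⟩ := hb
    refine ⟨d + d', P * P', (totalDegree_mul _ _).trans (add_le_add hP hP'), ?_⟩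
    rw [map_mul, ← e, ← e']
    ring

theorem exists_gens_zero : ∃ (s : ℕ) (r : Fin s → K), ∀ f ∈ C.R 0,
    ∃ c : Fin s → MvPolynomial (Fin (n + 1)) k, f = ∑ i, aeval C.x (c i) * r i := by
  obtain ⟨S, hS⟩ := C.finite 0
  refine ⟨_, fun i => (S.equivFin.symm i : K), fun f hf => ?_⟩
  obtain ⟨c, hc, rfl⟩ := hS f hf
  have : ∀ z, ∃ P, aeval C.x P = c z := fun z => by
    have := hc z
    rw [C.ratios_zero] at this
    exact this
  choose P hP using this
  refine ⟨fun i => P (S.equivFin.symm i), ?_⟩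
  simp only [hP]
  rw [← Finset.sum_coe_sort S]
  exact (S.equivFin.symm.sum_comp fun z : S => c (z : K) * (z : K)).symm

theorem exists_gens_one : ∃ (t : ℕ) (q : Fin t → K), ∀ f ∈ C.R 1, ∃ (d : ℕ)
    (c : Fin t → MvPolynomial (Fin (n + 1)) k),
      (∀ i, (c i).totalDegree ≤ d) ∧ f * C.x 0 ^ d = ∑ i, aeval C.x (c i) * q i := by
  obtain ⟨S, hS⟩ := C.finite 1
  refine ⟨_, fun i => (S.equivFin.symm i : K), fun f hf => ?_⟩
  obtain ⟨c, hc, rfl⟩ := hS f hf
  choose d P hP he using fun i : Fin S.card => C.exists_of_ratios_one (hc (S.equivFin.symm i))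
  let N := Finset.univ.sup d
  refine ⟨N, fun i => MvPolynomial.X 0 ^ (N - d i) * P i, fun i => ?_, ?_⟩
  · refine (totalDegree_mul _ _).trans ?_
    rw [totalDegree_X_pow]
    have := Finset.le_sup (f := d) (Finset.mem_univ i)
    have := hP i
    omega
  · rw [← Finset.sum_coe_sort S, ← S.equivFin.symm.sum_comp fun z : S => c (z : K) * (z : K), Finset.sum_mul]
    refine Finset.sum_congr rfl fun i _ => ?_
    rw [map_mul, map_pow, aeval_X, ← he i, show C.x 0 ^ N = C.x 0 ^ (N - d i) * C.x 0 ^ d i by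
      rw [← pow_add, Nat.sub_add_cancel (Finset.le_sup (f := d) (Finset.mem_univ i))]]
    ring

theorem exists_basis : ∃ (D : ℕ) (e : Fin D → K), IsPolyBasis (k := k) C.x e ∧ ∀ j, e j ∈ C.R 0 := by
  obtain ⟨s, r, hr⟩ := C.exists_gens_zero
  exact exists_isPolyBasis C.indep (C.R 0) (fun l => by
    have := C.mem 0 l.succ
    rwa [C.X_zero, div_one] at this) C.frac r hr

/-- Sections of the powers are bounded above by the number of polynomials. -/
theorem exists_upper {D : ℕ} {e : Fin D → K} (he : IsPolyBasis (k := k) C.x e) :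
    ∃ b, ∀ m, Module.Finite k (C.V m) ∧
      Module.finrank k (C.V m) ≤ D * (m + b + (n + 1)).choose (n + 1) := by
  obtain ⟨s, r, hr⟩ := C.exists_gens_zero
  obtain ⟨t, q, hq⟩ := C.exists_gens_one
  obtain ⟨b, hb⟩ := AVDegree22.exists_upper C.indep he (C.R 0) (C.R 1) r hr q hq
  refine ⟨b, fun m => ?_⟩
  obtain ⟨w, hw⟩ := hb m
  have hle : C.V m ≤ polesLE (C.R 0) (C.R 1) (C.x 0) m := fun f hf =>
    ⟨C.mem_zero_of_V hf, by
      show f * (C.x 0 ^ m)⁻¹ ∈ C.R 1
      rw [← div_eq_mul_inv]
      exact C.mem_V.1 hf 1⟩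
  haveI : Module.Finite k (C.V m) := Submodule.finiteDimensional_of_le (hle.trans hw)
  exact ⟨inferInstance, (Submodule.finrank_mono (hle.trans hw)).trans (finrank_range_le _ _ _)⟩

theorem monomial_mem (i : Fin (n + 2)) {m : ℕ} (P : MvPolynomial (Fin (n + 1)) k) (hP : P.totalDegree ≤ m) :
    aeval C.x P / C.X i ^ m ∈ C.R i := by
  rw [P.as_sum, map_sum, Finset.sum_div]
  refine Subalgebra.sum_mem _ fun s hs => ?_
  have hsd : (s.sum fun _ e => e) ≤ m := (le_totalDegree hs).trans hP
  rw [Finsupp.sum_fintype _ _ fun _ => rfl] at hsd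
  rw [aeval_monomial, mul_div_assoc, Finsupp.prod_fintype _ _ fun _ => pow_zero _,
    show C.X i ^ m = (∏ l, C.X i ^ s l) * C.X i ^ (m - ∑ l, s l) by
      rw [Finset.prod_pow_eq_pow_sum, ← pow_add, Nat.add_sub_cancel' hsd],
    div_mul_eq_div_div, ← Finset.prod_div_distrib, div_eq_mul_inv (∏ l, _), ← inv_pow]
  refine mul_mem (Subalgebra.algebraMap_mem _ _) (mul_mem (Subalgebra.prod_mem _ fun l _ => ?_) ?_)
  · rw [← div_pow]
    exact pow_mem (C.mem i l.succ) _
  · refine pow_mem ?_ _
    have := C.mem i 0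
    rwa [C.X_zero, one_div] at this

/-- Sections of the powers are bounded below by the number of polynomials. -/
theorem exists_lower {D : ℕ} {e : Fin D → K} (he : IsPolyBasis (k := k) C.x e) (heR : ∀ j, e j ∈ C.R 0) :
    ∃ a, ∀ m, D * (m + (n + 1)).choose (n + 1) ≤ Module.finrank k (C.V (m + a)) := by
  choose a₀ ha₀ using fun p : Fin D × Fin (n + 2) => C.overlap p.2 (e p.1) (heR p.1)
  refine ⟨Finset.univ.sup a₀, fun m => ?_⟩
  obtain ⟨b, hb⟩ := C.exists_upper he
  haveI := (hb (m + Finset.univ.sup a₀)).1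
  refine le_finrank_of_basis he _ m fun j P hP => C.mem_V.2 fun i => ?_
  rw [pow_add, mul_div_mul_comm]
  refine mul_mem (C.monomial_mem i P hP) ?_
  obtain ⟨c, hc⟩ := Nat.exists_eq_add_of_le (Finset.le_sup (f := a₀) (Finset.mem_univ (j, i)))
  rw [hc, pow_add, div_mul_eq_div_div, div_eq_mul_inv, ← inv_pow]
  refine mul_mem (ha₀ (j, i)) (pow_mem ?_ _)
  have := C.mem i 0
  rwa [C.X_zero, one_div] at this

/-- Leading coefficients of two systems whose sections agree along multiples. -/
theorem leadingCoeff_eq {K' : Type v} [Field K'] [Algebra k K'] (C' : Charts k K' n) (q : ℕ) (hq : 0 < q)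
    (h : ∀ m, Module.finrank k (C'.V m) = Module.finrank k (C.V (q * m)))
    {D : ℕ} {e : Fin D → K} (he : IsPolyBasis (k := k) C.x e)
    {D' : ℕ} {e' : Fin D' → K'} (he' : IsPolyBasis (k := k) C'.x e') (he'R : ∀ j, e' j ∈ C'.R 0)
    (heR : ∀ j, e j ∈ C.R 0) :
    D' = q ^ (n + 1) * D := by
  obtain ⟨b, hb⟩ := C.exists_upper he
  obtain ⟨a, ha⟩ := C.exists_lower he heR
  obtain ⟨b', hb'⟩ := C'.exists_upper he'
  obtain ⟨a', ha'⟩ := C'.exists_lower he' he'R
  set g := n + 1
  refine le_antisymm (le_of_mul_pow_le (c := a' + b + g) (g := g) fun m => ?_)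
    (le_of_mul_pow_le (c := a + b' + g) (g := g) fun m => ?_)
  · calc D' * m ^ g ≤ D' * ((m + g).choose g * g.factorial) := Nat.mul_le_mul_left _ (pow_le_choose_mul g m)
      _ = D' * (m + g).choose g * g.factorial := (Nat.mul_assoc _ _ _).symm
      _ ≤ Module.finrank k (C'.V (m + a')) * g.factorial := Nat.mul_le_mul_right _ (ha' m)
      _ = Module.finrank k (C.V (q * (m + a'))) * g.factorial := by rw [h]
      _ ≤ D * (q * (m + a') + b + g).choose g * g.factorial := Nat.mul_le_mul_right _ (hb _).2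
      _ = D * ((q * (m + a') + b + g).choose g * g.factorial) := Nat.mul_assoc _ _ _
      _ ≤ D * (q * (m + a') + b + g) ^ g := Nat.mul_le_mul_left _ (choose_mul_le_pow g _)
      _ ≤ D * (q * (m + (a' + b + g))) ^ g := by
          refine Nat.mul_le_mul_left _ (Nat.pow_le_pow_left ?_ g)
          nlinarith
      _ = q ^ g * D * (m + (a' + b + g)) ^ g := by rw [mul_pow]; ring
  · calc q ^ g * D * m ^ g = D * (q * m) ^ g := by rw [mul_pow]; ring
      _ ≤ D * ((q * m + g).choose g * g.factorial) := Nat.mul_le_mul_left _ (pow_le_choose_mul g _)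
      _ = D * (q * m + g).choose g * g.factorial := (Nat.mul_assoc _ _ _).symm
      _ ≤ D * (q * (m + a) - a + g).choose g * g.factorial := by
          refine Nat.mul_le_mul_right _ (Nat.mul_le_mul_left _ (Nat.choose_le_choose g ?_))
          have : a ≤ q * a := Nat.le_mul_of_pos_left a hq
          rw [Nat.mul_add]
          omega
      _ ≤ Module.finrank k (C.V (q * (m + a) - a + a)) * g.factorial := Nat.mul_le_mul_right _ (ha _)
      _ = Module.finrank k (C'.V (m + a)) * g.factorial := by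
          rw [h, Nat.sub_add_cancel ((Nat.le_add_left a m).trans (Nat.le_mul_of_pos_left _ hq))]
      _ ≤ D' * (m + a + b' + g).choose g * g.factorial := Nat.mul_le_mul_right _ (hb' _).2
      _ = D' * ((m + a + b' + g).choose g * g.factorial) := Nat.mul_assoc _ _ _
      _ ≤ D' * (m + a + b' + g) ^ g := Nat.mul_le_mul_left _ (choose_mul_le_pow g _)
      _ = D' * (m + (a + b' + g)) ^ g := by ring_nf

end Charts

end Groth.Agent.AVDegree22
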