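import Groth.Agent.Lib.AVDegree22.MulDeg
import Groth.Agent.Lib.CubeField.MulApp
import Groth.Agent.Lib.CubeField.FinInst
import Groth.Agent.Lib.AbRigid.Isogeny

/-!
# Multiplication by a nonzero integer is finite flat of degree `n ^ (2 g)`
-/

universe u

open CategoryTheory Limits AlgebraicGeometry MonoidalCategory CartesianMonoidalCategory MonObj
open scoped GrpObj

set_option linter.style.haveILetI false
set_option backward.isDefEq.respectTransparency false

namespace Groth.Agent.AVDegree22

variable {k : Type u} [Field k] (A : Over (Spec (CommRingCat.of k)))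
  [GrpObj A] [IsProper A.hom] [GeometricallyIntegral A.hom]

/-- Multiplication by a positive integer is finite, flat and surjective. -/
theorem isFinite_flat_surjective_pow {n : ℕ} (hn : 0 < n) :
    IsFinite (𝟙 A ^ n).left ∧ Flat (𝟙 A ^ n).left ∧ Surjective (𝟙 A ^ n).left := by
  haveI : IsCommMonObj A := isCommMonObj_of_isProper_of_geometricallyIntegral A
  haveI : IsIntegral A.left := GeometricallyIntegral.isIntegral_of_subsingleton A.hom
  obtain ⟨h1, h2⟩ := CubeField.isFinite_surjective_pow (A := A) CubeField.finH1 hn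
  haveI := TateTors22.isMonHom_pow (A := A) n
  exact ⟨h1, AbRigid.flat_of_surjective A A (𝟙 A ^ n), h2⟩

/-- The rank of multiplication by a positive integer at every point. -/
theorem finrank_pow {g : ℕ} (hg : topologicalKrullDim A.left = g) {n : ℕ} (hn : 0 < n) (a : A.left) :
    Scheme.Hom.finrank (𝟙 A ^ n).left a = n ^ (2 * g) := by
  haveI : IsCommMonObj A := isCommMonObj_of_isProper_of_geometricallyIntegral A
  haveI : IsIntegral A.left := GeometricallyIntegral.isIntegral_of_subsingleton A.hom
  obtain ⟨hf, hfl, hs⟩ := isFinite_flat_surjective_pow A hn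
  haveI := hf
  haveI := hfl
  haveI := hs
  haveI : LocallyOfFiniteType A.hom := inferInstance
  haveI : LocallyOfFinitePresentation (𝟙 A ^ n).left := by
    haveI : IsLocallyNoetherian A.left := LocallyOfFiniteType.isLocallyNoetherian A.hom
    exact inferInstance
  haveI : IsDominant (𝟙 A ^ n).left := ⟨(𝟙 A ^ n).left.surjective.denseRange⟩
  rcases g with _ | m
  · rw [Nat.mul_zero, pow_zero]
    haveI : Subsingleton A.left := by
      refine ⟨fun a b => ?_⟩
      have hmin : ∀ a : A.left, a = genericPoint A.left := fun a => by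
        by_contra hne
        have h2 := VarDim.sdim_lt_of_specializes A.hom (x := genericPoint A.left) (y := a)
          ((genericPoint_spec A.left).specializes trivial) (Ne.symm hne)
        have h3 := VarDim.dim_eq_sdim_genericPoint A.hom
        rw [hg] at h3
        have : VarDim.sdim A.hom (genericPoint A.left) = 0 := by exact_mod_cast h3.symm
        omega
      rw [hmin a, hmin b]
    haveI : IsClosedImmersion (η[A].left) :=
      isClosedImmersion_of_comp_eq_id (Y := Spec (.of k)) A.hom η[A].left (Over.w η[A])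
    haveI : Surjective (η[A].left) := ⟨fun a => ⟨IsLocalRing.closedPoint k, Subsingleton.elim _ _⟩⟩
    haveI : IsIso (η[A].left) := isIso_of_isClosedImmersion_of_surjective (η[A].left)
    haveI : IsIso ((Over.forget _).map η[A]) := ‹IsIso η[A].left›
    haveI : IsIso η[A] := isIso_of_reflects_iso η[A] (Over.forget _)
    have h1 : (𝟙 A ^ n) = 𝟙 A := by
      rw [← cancel_epi η[A], Category.comp_id]
      haveI := TateTors22.isMonHom_pow (A := A) n
      exact IsMonHom.one_hom _
    haveI : IsIso (𝟙 A ^ n).left := by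
      rw [h1]; exact inferInstanceAs (IsIso (𝟙 A.left))
    rw [Scheme.Hom.finrank_eq_one_of_isIso]
    rfl
  · rw [finrank_eq_genericPoint (𝟙 A ^ n), finrank_genericPoint (𝟙 A ^ n), fieldDeg_pow A hg hn]

/-- Multiplication by a nonzero integer is finite flat of constant rank `|d| ^ (2 g)`. -/
theorem isFinite_flat_finrank_zpow {g : ℕ} (hg : topologicalKrullDim A.left = g) {d : ℤ} (hd : d ≠ 0) :
    IsFinite (𝟙 A ^ d).left ∧ Flat (𝟙 A ^ d).left ∧
      ∀ a : A.left, Scheme.Hom.finrank (𝟙 A ^ d).left a = d.natAbs ^ (2 * g) := by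
  obtain ⟨n, rfl | rfl⟩ := d.eq_nat_or_neg
  · obtain ⟨h1, h2, -⟩ := isFinite_flat_surjective_pow A (n := n) (by omega)
    rw [zpow_natCast, Int.natAbs_natCast]
    exact ⟨h1, h2, finrank_pow A hg (by omega)⟩
  · obtain ⟨h1, h2, -⟩ := isFinite_flat_surjective_pow A (n := n) (by omega)
    haveI := h1
    haveI := h2
    haveI : IsCommMonObj A := isCommMonObj_of_isProper_of_geometricallyIntegral A
    have e : ((𝟙 A ^ n)⁻¹ : A ⟶ A) = ι[A] ≫ (𝟙 A ^ n) := by
      rw [TateTors22.comp_pow_id, ← inv_pow, Hom.inv_def, Category.id_comp]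
    haveI : IsIso (ι[A] : A ⟶ A).left :=
      ((Over.forget _).mapIso (asIso (ι[A] : A ⟶ A))).isIso_hom
    rw [zpow_neg, zpow_natCast, Int.natAbs_neg, Int.natAbs_natCast, e, Over.comp_left]
    refine ⟨inferInstance, inferInstance, fun a => ?_⟩
    rw [Scheme.Hom.finrank_comp_left_of_isIso]
    exact finrank_pow A hg (by omega) a

end Groth.Agent.AVDegree22
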