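import Groth.Agent.Lib.AVDegree22.DegPoly
import Groth.Agent.Lib.AVDegree22.DegAlgebra
import Groth.Agent.Lib.TateTors22.DetNorm
import Groth.Prelude.Def_EndTate

/-!
# The degree of an endomorphism is the determinant on the Tate module
-/

universe u

open CategoryTheory Limits AlgebraicGeometry MonoidalCategory CartesianMonoidalCategory MonObj
open Polynomial
open scoped GrpObj

set_option linter.style.haveILetI false
set_option backward.isDefEq.respectTransparency false

namespace Groth.Agent.AVDegree22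

variable {k : Type u} [Field k] {A : Over (Spec (CommRingCat.of k))}
  [GrpObj A] [IsCommMonObj A] [IsProper A.hom] [GeometricallyIntegral A.hom] [IsIntegral A.left]

theorem fieldMap_comp {B : Over (Spec (CommRingCat.of k))} [IsIntegral B.left] {D : Over (Spec (CommRingCat.of k))}
    [IsIntegral D.left] (f : A ⟶ B) (g : B ⟶ D) [IsDominant f.left] [IsDominant g.left] [IsDominant (f ≫ g).left] :
    (fieldMap (f ≫ g)).toRingHom = (fieldMap f).toRingHom.comp (fieldMap g).toRingHom := by
  have h := AVPRank22.gen_comp (f ≫ g)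
  rw [Over.comp_left, ← Category.assoc, AVPRank22.gen_comp, Category.assoc, AVPRank22.gen_comp, ← Category.assoc,
    ← Spec.map_comp, cancel_mono] at h
  exact (congrArg CommRingCat.Hom.hom (Spec.map_injective h)).symm

/-- The degree of an endomorphism, read at the generic point. -/
noncomputable def deg (β : EndAV.End A) : ℕ := Scheme.Hom.finrank β.toHom.left (genericPoint A.left)

theorem finite_props (β : EndAV.End A) (h : IsFinite β.toHom.left) :
    Surjective β.toHom.left ∧ Flat β.toHom.left ∧ LocallyOfFinitePresentation β.toHom.left ∧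
      IsDominant β.toHom.left := by
  haveI := h
  haveI hs : Surjective β.toHom.left := AbRigid.surjective_of_isFinite A A β.toHom rfl
  haveI : IsLocallyNoetherian A.left := LocallyOfFiniteType.isLocallyNoetherian A.hom
  exact ⟨hs, AbRigid.flat_of_surjective A A β.toHom, inferInstance, ⟨β.toHom.left.surjective.denseRange⟩⟩

theorem deg_eq_fieldDeg (β : EndAV.End A) [IsFinite β.toHom.left] [IsDominant β.toHom.left] :
    deg β = fieldDeg β.toHom := by
  obtain ⟨-, hfl, -, -⟩ := finite_props β inferInstance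
  haveI := hfl
  exact finrank_genericPoint β.toHom

theorem finrank_eq_deg (β : EndAV.End A) [hf : IsFinite β.toHom.left] (a : A.left) :
    Scheme.Hom.finrank β.toHom.left a = deg β := by
  obtain ⟨-, hfl, hlfp, -⟩ := finite_props β hf
  haveI := hfl
  haveI := hlfp
  exact finrank_eq_genericPoint β.toHom a

theorem deg_mul (β ψ : EndAV.End A) (hβ : IsFinite β.toHom.left) (hψ : IsFinite ψ.toHom.left) :
    IsFinite (β * ψ).toHom.left ∧ deg (β * ψ) = deg β * deg ψ := by
  haveI := hβ
  haveI := hψ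
  have hf : IsFinite (β * ψ).toHom.left := by
    rw [EndAV.End.toHom_mul, Over.comp_left]; infer_instance
  haveI := hf
  haveI := (finite_props β hβ).2.2.2
  haveI := (finite_props ψ hψ).2.2.2
  haveI : IsDominant (ψ.toHom ≫ β.toHom).left := (finite_props _ hf).2.2.2
  haveI : IsDominant (β * ψ).toHom.left := this
  refine ⟨hf, ?_⟩
  rw [deg_eq_fieldDeg, deg_eq_fieldDeg, deg_eq_fieldDeg, ← AVPRank22.deg_fieldMap, ← AVPRank22.deg_fieldMap β.toHom,
    ← AVPRank22.deg_fieldMap ψ.toHom]
  show AVPRank22.deg (fieldMap (ψ.toHom ≫ β.toHom)).toRingHom = _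
  rw [fieldMap_comp, AVPRank22.deg_comp]

theorem deg_one : IsFinite (1 : EndAV.End A).toHom.left ∧ deg (1 : EndAV.End A) = 1 := by
  haveI : IsIso (1 : EndAV.End A).toHom.left := inferInstanceAs (IsIso (𝟙 A.left))
  exact ⟨inferInstance, congrFun (Scheme.Hom.finrank_eq_one_of_isIso (1 : EndAV.End A).toHom.left) _⟩

omit [IsProper A.hom] [GeometricallyIntegral A.hom] [IsIntegral A.left] in
theorem toHom_sum_nsmul {r : ℕ} (β : Fin r → EndAV.End A) (c : Fin r → ℕ) (s : Finset (Fin r)) :
    (∑ i ∈ s, c i • β i).toHom = ∏ i ∈ s, (β i).toHom ^ c i := by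
  induction s using Finset.induction_on with
  | empty => rfl
  | insert i s hi ih => rw [Finset.sum_insert hi, Finset.prod_insert hi, EndAV.End.toHom_add, ih, EndAV.End.toHom_nsmul]

/-- The degree form of a family of endomorphisms. -/
theorem exists_deg_form {g : ℕ} (hg : topologicalKrullDim A.left = g) {r : ℕ} (β : Fin r → EndAV.End A) :
    ∃ F : MvPolynomial (Fin r) ℚ, F.IsHomogeneous (2 * g) ∧ ∀ c : Fin r → ℕ,
      IsFinite (∑ i, c i • β i).toHom.left →
        (deg (∑ i, c i • β i) : ℚ) = MvPolynomial.eval (fun i => (c i : ℚ)) F := by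
  obtain ⟨F, hF, hFe⟩ := exists_degree_form hg (fun i => (β i).toHom)
  refine ⟨F, hF, fun c hfin => ?_⟩
  have e := toHom_sum_nsmul β c Finset.univ
  show (Scheme.Hom.finrank (∑ i, c i • β i).toHom.left (genericPoint A.left) : ℚ) = _
  rw [e] at hfin ⊢
  exact hFe c hfin _

omit [IsIntegral A.left] in
theorem natDegree_line {g : ℕ} {F : MvPolynomial (Fin 2) ℚ} (hF : F.IsHomogeneous g) :
    (MvPolynomial.aeval ![(1 : ℚ[X]), X] F).natDegree ≤ g ∧
      (MvPolynomial.aeval ![(1 : ℚ[X]), X] F).coeff g = MvPolynomial.eval ![0, 1] F := by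
  classical
  have key : ∀ d : Fin 2 →₀ ℕ, ∀ c : ℚ,
      MvPolynomial.aeval ![(1 : ℚ[X]), X] (MvPolynomial.monomial d c) = C c * X ^ d 1 := fun d c => by
    rw [MvPolynomial.aeval_monomial, ← C_eq_algebraMap, Finsupp.prod_fintype _ _ fun _ => pow_zero _,
      Fin.prod_univ_two]
    simp
  have hsum : ∀ d ∈ F.support, d 0 + d 1 = g := fun d hd => by
    have := hF (MvPolynomial.mem_support_iff.1 hd)
    rw [Finsupp.weight_apply, Finsupp.sum_fintype _ _ fun i => zero_smul ℕ ((1 : Fin 2 → ℕ) i),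
      Fin.sum_univ_two] at this
    simpa using this
  refine ⟨?_, ?_⟩
  · conv_lhs => rw [F.as_sum, map_sum]
    refine natDegree_sum_le_of_forall_le _ _ fun d hd => ?_
    rw [key]
    exact (natDegree_C_mul_X_pow_le _ _).trans (by have := hsum d hd; omega)
  · conv_lhs => rw [F.as_sum, map_sum, finsetSum_coeff]
    conv_rhs => rw [F.as_sum, map_sum]
    refine Finset.sum_congr rfl fun d hd => ?_
    rw [key, coeff_C_mul_X_pow, MvPolynomial.eval_monomial, Finsupp.prod_fintype _ _ fun _ => pow_zero _,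
      Fin.prod_univ_two]
    have := hsum d hd
    by_cases h0 : d 0 = 0
    · rw [if_pos (by omega)]; simp [h0]
    · rw [if_neg (by omega)]; simp [h0]

variable (K : Type u) [Field K] [Algebra k K] [IsAlgClosed K] (l : ℕ) [Fact l.Prime]

/-- The degree of a finite endomorphism is its determinant on the Tate module. -/
theorem deg_eq_det (hl : (l : k) ≠ 0) (α : EndAV.End A) (hα : IsFinite α.toHom.left) :
    ((deg α : ℕ) : ℤ_[l]) = LinearMap.det (AbDual.tateMapₗ (l := l) (T := SGA7.pt (K := k) K) α.toHom) := by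
  classical
  obtain ⟨g, hg⟩ : ∃ g : ℕ, topologicalKrullDim A.left = g := ⟨_, VarDim.dim_eq_sdim_genericPoint A.hom⟩
  haveI := TateTors22.free_tateMod (A := A) K l hl
  haveI := TateTors22.finite_tateMod (A := A) K l hl
  have hrank := TateTors22.finrank_tateMod (A := A) K l hl hg
  let b := Module.finBasisOfFinrankEq ℤ_[l] (AbDual.TateMod A l (SGA7.pt (K := k) K)) hrank
  let Φ : EndAV.End A →+* Matrix (Fin (2 * g)) (Fin (2 * g)) ℤ_[l] :=
    (LinearMap.toMatrixAlgEquiv b).toRingEquiv.toRingHom.comp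
      (EndAV.End.tateRep (A := A) l (SGA7.pt (K := k) K))
  have hdet : ∀ β : EndAV.End A, (Φ β).det =
      LinearMap.det (AbDual.tateMapₗ (l := l) (T := SGA7.pt (K := k) K) β.toHom) :=
    fun β => LinearMap.det_toMatrix b _
  have hfiniff : ∀ β : EndAV.End A, IsFinite β.toHom.left ↔ (Φ β).det ≠ 0 := fun β => by
    rw [hdet]; exact TateTors22.isFinite_iff_det_ne_zero K l hl β.toHom
  have hnorm : ∀ β : EndAV.End A, IsFinite β.toHom.left → ‖(deg β : ℤ_[l])‖ = ‖(Φ β).det‖ := fun β hβ => by
    haveI := hβ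
    haveI := (finite_props β hβ).2.2.2
    rw [hdet, deg_eq_fieldDeg, TateTors22.norm_fieldDeg_eq_norm_det K l hl β.toHom]
  obtain ⟨F, hF, hFe⟩ := exists_deg_form hg ![α, (1 : EndAV.End A)]
  have hFe' : ∀ a c : ℕ, IsFinite (a • α + c • (1 : EndAV.End A)).toHom.left →
      (deg (a • α + c • (1 : EndAV.End A)) : ℚ) = MvPolynomial.eval ![(a : ℚ), (c : ℚ)] F := fun a c h => by
    have e : ∑ i, (![a, c]) i • (![α, (1 : EndAV.End A)]) i = a • α + c • 1 := by simp [Fin.sum_univ_two]
    have := hFe ![a, c] (e.symm ▸ h)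
    rw [e] at this
    rw [this]
    congr 2
    funext i; fin_cases i <;> rfl
  have hF01 : MvPolynomial.eval ![(0 : ℚ), 1] F = 1 := by
    have := hFe' 0 1 (by rw [zero_smul, zero_add, one_smul]; exact deg_one.1)
    rw [zero_smul, zero_add, one_smul, deg_one.2] at this
    simpa using this.symm
  have hF10 : (deg α : ℚ) = MvPolynomial.eval ![(1 : ℚ), 0] F := by
    have := hFe' 1 0 (by rw [one_smul, zero_smul, add_zero]; exact hα)
    rw [one_smul, zero_smul, add_zero] at this
    simpa using this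
  rcases Nat.eq_zero_or_pos g with rfl | hg0
  · obtain ⟨c, rfl⟩ : ∃ c : ℚ, F = MvPolynomial.C c :=
      ⟨_, MvPolynomial.totalDegree_eq_zero_iff_eq_C.1 (Nat.eq_zero_of_le_zero hF.totalDegree_le)⟩
    rw [MvPolynomial.eval_C] at hF01 hF10
    rw [hF01, Nat.cast_eq_one] at hF10
    haveI : IsEmpty (Fin (2 * 0)) := Fin.isEmpty
    rw [hF10, Nat.cast_one, ← hdet, Matrix.det_isEmpty]
  obtain ⟨hPd, hPc⟩ := natDegree_line hF
  rw [hF01] at hPc
  set P := MvPolynomial.aeval ![(1 : ℚ[X]), X] F with hP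
  have hPeval : ∀ t : ℚ, P.eval t = MvPolynomial.eval ![1, t] F := fun t => by
    rw [hP, ← Polynomial.coe_aeval_eq_eval, ← AlgHom.comp_apply, MvPolynomial.comp_aeval, ← MvPolynomial.aeval_eq_eval]
    congr 2
    funext i; fin_cases i <;> simp
  have hPm : P.Monic := monic_of_natDegree_le_of_coeff_eq_one _ hPd hPc
  have hPdeg : P.natDegree = 2 * g :=
    le_antisymm hPd (le_natDegree_of_ne_zero (by rw [hPc]; exact one_ne_zero))
  obtain ⟨M, hM⟩ := exists_matrix_det_eq P hPm hPdeg
  -- finiteness of translates by integers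
  let N := Φ α
  let S : Set ℕ := {n | IsFinite (α + (n : EndAV.End A)).toHom.left}
  have hS : S.Infinite := by
    have hsub : ∀ n : ℕ, n ∉ S → (-N).charpoly.IsRoot (n : ℤ_[l]) := fun n hn => by
      have := mt (hfiniff _).2 hn
      rw [not_not, map_add, map_natCast] at this
      rw [Polynomial.IsRoot, Matrix.eval_charpoly, sub_neg_eq_add, ← this]
      congr 1
      rw [add_comm, ← map_natCast (algebraMap ℤ_[l] (Matrix (Fin (2 * g)) (Fin (2 * g)) ℤ_[l])),
        Matrix.algebraMap_eq_diagonal]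
      rfl
    intro hfin
    have hc : (Sᶜ).Finite := (Polynomial.finite_setOf_isRoot (Matrix.charpoly_monic (-N)).ne_zero).preimage
      (Nat.cast_injective.injOn) |>.subset hsub
    exact Set.infinite_univ (by rw [← Set.union_compl_self S]; exact hfin.union hc)
  have hnat : ∀ G : ℕ[X], G.Monic → (aeval N (G.map (Nat.castRingHom ℤ_[l]))).det ≠ 0 →
      ‖(aeval (M.map (algebraMap ℚ ℚ_[l])) (G.map (Nat.castRingHom ℚ_[l]))).det‖ =
        ‖(aeval N (G.map (Nat.castRingHom ℤ_[l]))).det‖ := by
    intro G hG hne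
    obtain ⟨FG, -, hFG⟩ := exists_deg_form hg (fun i : Fin (G.natDegree + 1) => α ^ (i : ℕ))
    let ev : ℕ[X] → EndAV.End A := fun H => aeval α H
    have hsum : ∀ H : ℕ[X], H.natDegree = G.natDegree →
        ev H = ∑ i : Fin (G.natDegree + 1), H.coeff (i : ℕ) • α ^ (i : ℕ) := fun H hH => by
      show aeval α H = _
      rw [aeval_eq_sum_range' (n := G.natDegree + 1) (by omega),
        ← Fin.sum_univ_eq_sum_range (fun i => H.coeff i • α ^ i)]
    have hΦ : ∀ H : ℕ[X], Φ (ev H) = aeval N (H.map (Nat.castRingHom ℤ_[l])) := fun H => by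
      show Φ (aeval α H) = _
      rw [aeval_eq_sum_range, map_sum, aeval_eq_sum_range' (n := H.natDegree + 1)
        (Nat.lt_succ_of_le natDegree_map_le)]
      refine Finset.sum_congr rfl fun i _ => ?_
      rw [map_nsmul, map_pow, coeff_map, Nat.coe_castRingHom, Nat.cast_smul_eq_nsmul]
    have hlin : ∀ v : Fin G.natDegree → ℕ, (∀ j, v j ∈ S) → ∀ s : Finset (Fin G.natDegree),
        IsFinite (ev (∏ j ∈ s, (X + C (v j)))).toHom.left ∧
          (deg (ev (∏ j ∈ s, (X + C (v j)))) : ℚ) =
            ∏ j ∈ s, (algebraMap ℚ (Matrix (Fin (2 * g)) (Fin (2 * g)) ℚ) (v j : ℚ) + M).det := by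
      intro v hv s
      induction s using Finset.induction_on with
      | empty =>
        have e : ev (∏ j ∈ (∅ : Finset (Fin G.natDegree)), (X + C (v j))) = 1 := by simp [ev]
        rw [e, deg_one.2, Finset.prod_empty, Nat.cast_one]
        exact ⟨deg_one.1, rfl⟩
      | insert j s hj ih =>
        have e : ev (∏ i ∈ insert j s, (X + C (v i))) = (α + (v j : EndAV.End A)) * ev (∏ i ∈ s, (X + C (v i))) := by
          simp [ev, Finset.prod_insert hj]
        obtain ⟨h1, h2⟩ := deg_mul _ _ (hv j) ih.1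
        rw [e, h2, Finset.prod_insert hj, Nat.cast_mul, ih.2]
        refine ⟨h1, ?_⟩
        congr 1
        rw [hM, hPeval]
        have := hFe' 1 (v j) (by rw [one_smul, nsmul_one]; exact hv j)
        rw [one_smul, nsmul_one] at this
        simpa using this
    have hid : ∀ H : ℕ[X], H.Monic → H.natDegree = G.natDegree → IsFinite (ev H).toHom.left →
        (deg (ev H) : ℚ) = MvPolynomial.eval (fun i : Fin (G.natDegree + 1) => ((H.coeff (i : ℕ) : ℕ) : ℚ)) FG :=
      fun H hH hHd hfin => by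
        rw [hsum H hHd] at hfin ⊢
        exact hFG _ hfin
    have hfinG : IsFinite (ev G).toHom.left := (hfiniff _).2 (by rw [hΦ]; exact hne)
    have heq : (deg (ev G) : ℚ) = (aeval M (G.map (Nat.castRingHom ℚ))).det := by
      rw [hid G hG rfl hfinG]
      refine eval_eq_det_of_mul M S hS FG (fun v hv => ?_) G hG rfl
      obtain ⟨h1, h2⟩ := hlin v hv Finset.univ
      rw [← h2, hid _ (monic_prod_of_monic _ _ fun j _ => monic_X_add_C _) ?_ h1]
      rw [natDegree_prod_of_monic _ _ fun j _ => monic_X_add_C _,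
        Finset.sum_congr rfl fun j _ => natDegree_X_add_C (v j)]
      simp
    have h1 := hnorm _ hfinG
    rw [hΦ] at h1
    rw [← h1]
    have h2 := congrArg (algebraMap ℚ ℚ_[l]) heq
    rw [RingHom.map_det, map_natCast] at h2
    have h3 : (algebraMap ℚ ℚ_[l]).mapMatrix (aeval M (G.map (Nat.castRingHom ℚ))) =
        aeval (M.map (algebraMap ℚ ℚ_[l])) (G.map (Nat.castRingHom ℚ_[l])) := by
      rw [aeval_eq_sum_range' (n := G.natDegree + 1) (Nat.lt_succ_of_le natDegree_map_le),
        aeval_eq_sum_range' (n := G.natDegree + 1) (Nat.lt_succ_of_le natDegree_map_le), map_sum]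
      refine Finset.sum_congr rfl fun i _ => ?_
      simp only [coeff_map, Nat.coe_castRingHom, Nat.cast_smul_eq_nsmul, map_nsmul, map_pow]
      rfl
    rw [← h3, ← h2, PadicInt.norm_def]
    simp
  haveI : Nonempty (Fin (2 * g)) := ⟨⟨0, by omega⟩⟩
  have hchar := TateTors22.charpoly_eq_of_norm_det_eq (M.map (algebraMap ℚ ℚ_[l])) N
    fun G hG _ hne => norm_det_eq_of_nat _ N hnat G hG hne
  have hd0 : (M.map (algebraMap ℚ ℚ_[l])).det = algebraMap ℤ_[l] ℚ_[l] N.det := by
    rw [Matrix.det_eq_sign_charpoly_coeff, Matrix.det_eq_sign_charpoly_coeff N, hchar, coeff_map, map_mul,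
      map_pow, map_neg, map_one]
  have hdM : M.det = (deg α : ℚ) := by
    rw [hF10, ← hPeval, ← hM 0, map_zero, zero_add]
  refine Subtype.ext ?_
  rw [← hdet]
  refine Eq.trans ?_ hd0
  rw [show (M.map (algebraMap ℚ ℚ_[l])).det = algebraMap ℚ ℚ_[l] M.det from ((algebraMap ℚ ℚ_[l]).map_det M).symm,
    hdM, map_natCast]
  simp

/-- An endomorphism which is not finite has determinant zero. -/
theorem det_eq_zero_of_not_isFinite (hl : (l : k) ≠ 0) (α : EndAV.End A) (hα : ¬ IsFinite α.toHom.left) :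
    LinearMap.det (AbDual.tateMapₗ (l := l) (T := SGA7.pt (K := k) K) α.toHom) = 0 :=
  not_not.1 fun h => hα ((TateTors22.isFinite_iff_det_ne_zero K l hl α.toHom).2 h)

end Groth.Agent.AVDegree22
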