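import Groth.Agent.Lib.AVDegree22.CharPoly
import Mathlib.Algebra.MvPolynomial.Funext

/-!
# The degree is a homogeneous polynomial on lattices of endomorphisms
-/

universe u

open CategoryTheory Limits AlgebraicGeometry MonoidalCategory CartesianMonoidalCategory MonObj
open scoped GrpObj

set_option linter.style.haveILetI false
set_option backward.isDefEq.respectTransparency false

namespace Groth.Agent.AVDegree22

variable {k : Type u} [Field k] {A : Over (Spec (CommRingCat.of k))}
  [GrpObj A] [IsCommMonObj A] [IsProper A.hom] [GeometricallyIntegral A.hom] [IsIntegral A.left]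

omit [IsProper A.hom] [GeometricallyIntegral A.hom] [IsIntegral A.left] in
theorem toHom_sum_zsmul {r : ℕ} (β : Fin r → EndAV.End A) (c : Fin r → ℤ) (s : Finset (Fin r)) :
    (∑ i ∈ s, c i • β i).toHom = ∏ i ∈ s, (β i).toHom ^ c i := by
  induction s using Finset.induction_on with
  | empty => rfl
  | insert i s hi ih => rw [Finset.sum_insert hi, Finset.prod_insert hi, EndAV.End.toHom_add, ih, EndAV.End.toHom_zsmul]

/-- The degree is a homogeneous polynomial of degree twice the dimension on every lattice of endomorphisms. -/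
theorem exists_deg0_polynomial {g : ℕ} (hg : topologicalKrullDim A.left = g) {r : ℕ} (β : Fin r → EndAV.End A) :
    ∃ P : MvPolynomial (Fin r) ℚ, P.IsHomogeneous (2 * g) ∧
      ∀ a : Fin r → ℤ, MvPolynomial.eval (fun i => (a i : ℚ)) P = (deg0 (∑ i, a i • β i) : ℤ) := by
  classical
  obtain ⟨l, hlp, hl⟩ := exists_prime_ne_zero k
  haveI := Fact.mk hlp
  let K := AlgebraicClosure k
  haveI := TateTors22.free_tateMod (A := A) K l hl
  haveI := TateTors22.finite_tateMod (A := A) K l hl
  let b := Module.finBasisOfFinrankEq ℤ_[l] (AbDual.TateMod A l (SGA7.pt (K := k) K))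
    (TateTors22.finrank_tateMod (A := A) K l hl hg)
  let Φ : EndAV.End A →+* Matrix (Fin (2 * g)) (Fin (2 * g)) ℤ_[l] :=
    (LinearMap.toMatrixAlgEquiv b).toAlgHom.toRingHom.comp (EndAV.End.tateRep (A := A) l (SGA7.pt (K := k) K))
  let φ := algebraMap ℤ_[l] ℚ_[l]
  let D : MvPolynomial (Fin r) ℚ_[l] :=
    (∑ i, (MvPolynomial.X i : MvPolynomial (Fin r) ℚ_[l]) • ((Φ (β i)).map φ).map MvPolynomial.C).det
  have hD : ∀ a : Fin r → ℤ, MvPolynomial.eval (fun i => (a i : ℚ_[l])) D = ((deg0 (∑ i, a i • β i) : ℤ) : ℚ_[l]) := fun a => by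
    rw [← map_intCast φ, deg0_eq_det K l hl, RingHom.map_det, ← LinearMap.det_toMatrix b]
    show _ = φ (Φ (∑ i, a i • β i)).det
    rw [RingHom.map_det, map_sum, map_sum, map_sum]
    refine congrArg Matrix.det (Finset.sum_congr rfl fun i _ => ?_)
    rw [map_zsmul Φ, ← Int.cast_smul_eq_zsmul ℤ_[l]]
    ext p q
    simp [φ]
  obtain ⟨F, hF, hFe⟩ := exists_deg_form hg β
  have hFD : (MvPolynomial.map (algebraMap ℚ ℚ_[l]) F - D) * D = 0 := by
    refine MvPolynomial.funext_set (fun _ : Fin r => Set.range (fun n : ℕ => (n : ℚ_[l])))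
      (fun _ => Set.infinite_range_of_injective Nat.cast_injective) fun x hx => ?_
    choose c hc using fun i => hx i (Set.mem_univ i)
    obtain rfl : x = fun i => ((c i : ℤ) : ℚ_[l]) := funext fun i => by rw [Int.cast_natCast]; exact (hc i).symm
    rw [map_zero, map_mul, map_sub, hD]
    by_cases h : IsFinite (∑ i, ((c i : ℤ) • β i)).toHom.left
    · have e : ∑ i, ((c i : ℤ) • β i) = ∑ i, c i • β i := by simp only [natCast_zsmul]
      have h1 := hFe c (e ▸ h)
      rw [deg0_of_finite h, e, MvPolynomial.eval_map]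
      have h2 := congrArg (algebraMap ℚ ℚ_[l]) h1
      rw [map_natCast, MvPolynomial.eval₂_comp] at h2
      rw [Int.cast_natCast, h2, sub_eq_zero.2, zero_mul]
      refine congrArg (fun w => MvPolynomial.eval₂ (algebraMap ℚ ℚ_[l]) w F) (funext fun i => ?_)
      simp
    · rw [deg0_of_not_finite h, Int.cast_zero, mul_zero]
  have hint : ∀ (P : MvPolynomial (Fin r) ℚ), MvPolynomial.map (algebraMap ℚ ℚ_[l]) P = D →
      ∀ a : Fin r → ℤ, MvPolynomial.eval (fun i => (a i : ℚ)) P = (deg0 (∑ i, a i • β i) : ℤ) := fun P hP a => by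
    apply (algebraMap ℚ ℚ_[l]).injective
    rw [map_intCast, ← hD, ← hP, MvPolynomial.eval_map, MvPolynomial.eval₂_comp]
    refine congrArg (fun w => MvPolynomial.eval₂ (algebraMap ℚ ℚ_[l]) w P) (funext fun i => ?_)
    simp
  rcases mul_eq_zero.1 hFD with h | h
  · exact ⟨F, hF, hint F (sub_eq_zero.1 h)⟩
  · exact ⟨0, MvPolynomial.isHomogeneous_zero _ _ _, hint 0 (by rw [map_zero, h])⟩

end Groth.Agent.AVDegree22
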