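import Groth.Agent.Lib.AVDegree22.Exists
import Mathlib.FieldTheory.IntermediateField.Basic
import Mathlib.LinearAlgebra.FiniteDimensional.Basic

/-!
# Degree of a self-map multiplying a polarisation
-/

universe u

open CategoryTheory AlgebraicGeometry TopologicalSpace MvPolynomial

set_option backward.isDefEq.respectTransparency false
set_option linter.style.haveILetI false

namespace Groth.Agent.AVDegree22

variable {k : Type u} [Field k] {X Y : Over (Spec (CommRingCat.of k))} [IsIntegral X.left] [IsIntegral Y.left]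
  (f : Y ⟶ X) [IsDominant f.left]

/-- The degree of the function field extension of a dominant morphism. -/
noncomputable def fieldDeg : ℕ := Module.finrank (fieldMap f).fieldRange Y.left.functionField

/-- A basis through an extension of finite degree. -/
theorem exists_basis_comp [IsAffineHom f.left] [IsProper X.hom] [IsProper Y.hom] {n : ℕ} (S : SecSys X n)
    (hX : topologicalKrullDim X.left = (n + 1 : ℕ)) (hY : topologicalKrullDim Y.left = (n + 1 : ℕ))
    {D : ℕ} {e : Fin D → X.left.functionField} (he : IsPolyBasis (k := k) (S.toCharts hX).x e) :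
    0 < fieldDeg f ∧ ∃ e' : Fin (fieldDeg f * D) → Y.left.functionField,
      IsPolyBasis (k := k) ((S.pull f).toCharts hY).x e' ∧ ∀ j, e' j ∈ ((S.pull f).toCharts hY).R 0 := by
  classical
  let φ := fieldMap f
  let C' := (S.pull f).toCharts hY
  let x := (S.toCharts hX).x
  have hx : ∀ P, aeval C'.x P = φ (aeval x P) := fun P => by
    rw [← AlgHom.comp_apply, comp_aeval]
    rfl
  obtain ⟨D₀, e₀, he₀, he₀R⟩ := C'.exists_basis
  let F := φ.fieldRange
  haveI : Module.Finite F Y.left.functionField := by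
    refine ⟨Finset.univ.image e₀, Submodule.eq_top_iff'.2 fun y => ?_⟩
    obtain ⟨h, P, hh, hP⟩ := he₀.span y
    have hh' : aeval C'.x h ≠ 0 := fun e => hh ((map_eq_zero_iff _ C'.indep).1 e)
    have hy : (⟨φ (aeval x h), ⟨_, rfl⟩⟩ : F) • y ∈ Submodule.span F (Finset.univ.image e₀ : Set Y.left.functionField) := by
      show φ (aeval x h) * y ∈ _
      rw [← hx, hP]
      refine Submodule.sum_mem _ fun j _ => ?_
      rw [hx]
      exact Submodule.smul_mem _ (⟨φ (aeval x (P j)), ⟨_, rfl⟩⟩ : F) (Submodule.subset_span (by simp))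
    exact (Submodule.smul_mem_iff _ (fun e => hh' (by rw [hx]; exact congrArg Subtype.val e))).1 hy
  let b := Module.finBasis F Y.left.functionField
  let v : Fin (fieldDeg f) × Fin D → Y.left.functionField := fun p => φ (e p.2) * b p.1
  have hspanv : ∀ y, ∃ (h : MvPolynomial (Fin (n + 1)) k) (P : Fin (fieldDeg f) × Fin D → MvPolynomial (Fin (n + 1)) k),
      h ≠ 0 ∧ aeval C'.x h * y = ∑ p, aeval C'.x (P p) * v p := fun y => by
    choose t ht using fun i => (b.repr y i).2
    obtain ⟨h, P, hh, hP⟩ := he.span_finite t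
    refine ⟨h, fun p => P p.1 p.2, hh, ?_⟩
    conv_lhs => rw [← b.sum_repr y, Finset.mul_sum]
    rw [Fintype.sum_prod_type]
    refine Finset.sum_congr rfl fun i _ => ?_
    show aeval C'.x h * (((b.repr y i : F) : Y.left.functionField) * b i) = _
    rw [← ht i, ← mul_assoc, hx]
    show φ _ * φ (t i) * b i = _
    rw [← map_mul, hP i, map_sum, Finset.sum_mul]
    refine Finset.sum_congr rfl fun j _ => ?_
    rw [map_mul, hx, mul_assoc]
  have hindv : ∀ P : Fin (fieldDeg f) × Fin D → MvPolynomial (Fin (n + 1)) k,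
      ∑ p, aeval C'.x (P p) * v p = 0 → ∀ p, P p = 0 := fun P hP p => by
    rw [Fintype.sum_prod_type] at hP
    have h1 := Fintype.linearIndependent_iff.1 b.linearIndependent
      (fun i => (⟨φ (∑ j, aeval x (P (i, j)) * e j), ⟨_, rfl⟩⟩ : F)) (by
        refine Eq.trans (Finset.sum_congr rfl fun i _ => ?_) hP
        show φ _ * b i = _
        rw [map_sum, Finset.sum_mul]
        refine Finset.sum_congr rfl fun j _ => ?_
        rw [map_mul, ← hx, mul_assoc]) p.1
    exact he.indep (fun j => P (p.1, j)) (φ.injective ((congrArg Subtype.val h1).trans (map_zero φ).symm)) p.2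
  choose a Q ha hQ using fun p => he₀.span (v p)
  have ha' : ∀ p, aeval C'.x (a p) ≠ 0 := fun p e => ha p ((map_eq_zero_iff _ C'.indep).1 e)
  refine ⟨Module.finrank_pos, fun j => aeval C'.x (a (finProdFinEquiv.symm j)) * v (finProdFinEquiv.symm j),
    ⟨fun P hP j => ?_, fun y => ?_⟩, fun j => ?_⟩
  · have h1 := hindv (fun p => a p * P (finProdFinEquiv p)) (by
      rw [← finProdFinEquiv.symm.sum_comp]
      refine Eq.trans (Finset.sum_congr rfl fun i _ => ?_) hP
      rw [map_mul, Equiv.apply_symm_apply]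
      ring) (finProdFinEquiv.symm j)
    rw [Equiv.apply_symm_apply] at h1
    exact (mul_eq_zero.1 h1).resolve_left (ha _)
  · obtain ⟨h, P, hh, hP⟩ := hspanv y
    refine ⟨(∏ p, a p) * h, fun j => (∏ l ∈ Finset.univ.erase (finProdFinEquiv.symm j), a l) *
      P (finProdFinEquiv.symm j), mul_ne_zero (Finset.prod_ne_zero_iff.2 fun p _ => ha p) hh, ?_⟩
    rw [map_mul, mul_assoc, hP, Finset.mul_sum, ← finProdFinEquiv.symm.sum_comp]
    refine Finset.sum_congr rfl fun j _ => ?_
    rw [← Finset.mul_prod_erase Finset.univ a (Finset.mem_univ (finProdFinEquiv.symm j)), map_mul, map_mul]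
    ring
  · show aeval C'.x (a (finProdFinEquiv.symm j)) * v (finProdFinEquiv.symm j) ∈ C'.R 0
    rw [hQ]
    refine Subalgebra.sum_mem _ fun l _ => mul_mem ?_ (he₀R l)
    have hle : ratios k Y.left.functionField n C'.X 0 ≤ C'.R 0 :=
      Algebra.adjoin_le (by rintro _ ⟨i, rfl⟩; exact C'.mem 0 i)
    exact hle (by rw [C'.ratios_zero]; exact ⟨_, rfl⟩)

/-- A self-map multiplying an ample class by `q` has degree `q` to the power of the dimension. -/
theorem fieldDeg_eq_pow [IsProper X.hom] (f : X ⟶ X) [IsDominant f.left] [IsAffineHom f.left] {n : ℕ}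
    (hX : topologicalKrullDim X.left = (n + 1 : ℕ)) {L : X.left.Modules} (hL : CohB1.IsAmple L) {q : ℕ} (hq : 0 < q)
    (hiso : Nonempty ((Scheme.Modules.pullback f.left).obj L ≅ CohB1.tensorPow L q)) :
    fieldDeg f = q ^ (n + 1) := by
  obtain ⟨e, a, S, -, hS⟩ := exists_system hX hL
  let M := CohB1.tensorPow L e
  obtain ⟨θ⟩ := hiso
  have θ' : (Scheme.Modules.pullback f.left).obj M ≅ CohB1.tensorPow M q :=
    M2.pullTensorPowIso f.left L e ≪≫ M2.tensorPowIso θ e ≪≫ M2.tensorPowPow L q e ≪≫
      eqToIso (by rw [Nat.mul_comm]) ≪≫ (M2.tensorPowPow L e q).symm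
  obtain ⟨u, hu⟩ := ((hS.pull f).map_iso θ' (M2.isInvertible_tensorPow hS.inv q)).compat (hS.pow q hq)
  obtain ⟨D, b, hb, hbR⟩ := (S.toCharts hX).exists_basis
  obtain ⟨-, b', hb', hb'R⟩ := exists_basis_comp f S hX hX hb
  have h := (S.toCharts hX).leadingCoeff_eq ((S.pull f).toCharts hX) q hq
    (fun m => (SecSys.Compat.finrank_eq (S.pull f) hX hu m).trans (S.finrank_pow hX q hq m)) hb hb' hb'R hbR
  exact Nat.eq_of_mul_eq_mul_right (hb.pos (S.toCharts hX).indep) h

end Groth.Agent.AVDegree22
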