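import Groth.Agent.Lib.AVDegree22.Tuple
import Groth.Agent.Lib.VarDim.Fibre

/-!
# Existence of a finite system of generating sections with affine loci
-/

universe u

open CategoryTheory AlgebraicGeometry TopologicalSpace

set_option backward.isDefEq.respectTransparency false
set_option linter.style.haveILetI false

namespace Groth.Agent.AVDegree22

open Groth.Agent.Amp

variable {k : Type u} [Field k] {X : Over (Spec (CommRingCat.of k))} [IsIntegral X.left] [IsProper X.hom]
  {L : X.left.Modules}

theorem exists_loci {n : ℕ} (hdim : topologicalKrullDim X.left = (n + 1 : ℕ)) (hL : CohB1.IsAmple L) :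
    ∀ j : ℕ, ∃ (d : Fin j → ℕ) (G : Fin j → X.left.Opens),
      (∀ i, HasSec L (d i + 1) (G i) ∧ IsAffineOpen (G i) ∧ genericPoint X.left ∈ G i) ∧
      ∀ z, (∀ i, z ∉ G i) → VarDim.sdim X.hom z + j ≤ n + 1 := by
  haveI : LocallyOfFiniteType X.hom := inferInstance
  haveI : CompactSpace X.left := QuasiCompact.compactSpace_of_compactSpace X.hom
  haveI := VarDim.noetherianSpace_of_finiteType X.hom
  intro j
  induction j with
  | zero =>
    refine ⟨Fin.elim0, Fin.elim0, fun i => i.elim0, fun z _ => ?_⟩
    have h := le_iSup (fun z : X.left => ((VarDim.sdim X.hom z : ℕ) : WithBot ℕ∞)) z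
    rw [← VarDim.dim_eq_iSup_sdim X.hom, hdim] at h
    simpa using (Nat.cast_le.1 h)
  | succ j ih =>
    obtain ⟨d, G, hG, hbound⟩ := ih
    let Z : Set X.left := (⋃ i, (G i : Set X.left))ᶜ
    have hZ : IsClosed Z := (isOpen_iUnion fun i => (G i).2).isClosed_compl
    obtain ⟨T, hT⟩ := VarDim.exists_finite_generic hZ
    obtain ⟨m, H, hH, hTH, -, hA⟩ := exists_affine_hasSec_finite hL
      (T.finite_toSet.insert (genericPoint X.left)) (U := ⊤) fun _ _ => trivial
    refine ⟨Fin.snoc d m, Fin.snoc G H, fun i => ?_, fun z hz => ?_⟩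
    · cases i using Fin.lastCases with
      | last => simpa using ⟨hH, hA, hTH (Set.mem_insert _ _)⟩
      | cast i => simpa using hG i
    · have hzG : ∀ i, z ∉ G i := fun i => by simpa using hz i.castSucc
      have hzH : z ∉ H := by simpa using hz (Fin.last j)
      have hzZ : z ∈ Z := by simpa [Z] using hzG
      obtain ⟨t, ht, htz⟩ := (hT z).1 hzZ
      have hne : t ≠ z := fun e => hzH (e ▸ hTH (Set.mem_insert_of_mem _ ht))
      have htZ : t ∈ Z := (hT t).2 ⟨t, ht, specializes_rfl⟩
      have h1 := hbound t (by simpa [Z] using htZ)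
      have h2 := VarDim.sdim_lt_of_specializes X.hom htz hne
      omega

/-- An ample module gives a system of charts. -/
theorem exists_system {n : ℕ} (hdim : topologicalKrullDim X.left = (n + 1 : ℕ)) (hL : CohB1.IsAmple L) :
    ∃ (e : ℕ) (a : Fin (n + 2) → (Coh.structureModule X.left ⟶ CohB1.tensorPow L e)) (S : SecSys X n),
      0 < e ∧ S.IsOf (CohB1.tensorPow L e) a := by
  obtain ⟨d, G, hG, hbound⟩ := exists_loci hdim hL (n + 2)
  let e := ∏ i, (d i + 1)
  have hsec : ∀ i, HasSec L e (G i) := fun i => by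
    have hpos : 0 < ∏ l ∈ Finset.univ.erase i, (d l + 1) := Finset.prod_pos fun l _ => Nat.succ_pos _
    refine ((hG i).1.powPow hL.1 ((∏ l ∈ Finset.univ.erase i, (d l + 1)) - 1)).of_eq ?_
    rw [Nat.sub_add_cancel hpos]
    exact Finset.mul_prod_erase Finset.univ (fun l => d l + 1) (Finset.mem_univ i)
  choose a ha using hsec
  obtain ⟨S, hS⟩ := exists_secSys (M2.isInvertible_tensorPow hL.1 e) a (fun i => (ha i).symm ▸ (hG i).2.1)
    (fun i => (ha i).symm ▸ (hG i).2.2) (fun z => by
      by_contra hz
      push Not at hz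
      have := hbound z fun i hi => hz i ((ha i).symm ▸ hi)
      omega)
  exact ⟨e, a, S, Finset.prod_pos fun l _ => Nat.succ_pos _, hS⟩

end Groth.Agent.AVDegree22
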