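import Groth.Agent.Lib.AVDegree22.EulerVol
import Groth.Agent.Lib.AVDegree22.Exists
import Groth.Agent.Lib.AVDegree22.Degree
import Groth.Agent.Lib.AVDegree22.MulRank
import Groth.Agent.Lib.CubeField.Mumford22
import Groth.Agent.Lib.CubeField.AmpleExists
import Groth.Agent.Lib.AbRigid.Isogeny
import Mathlib.RingTheory.MvPolynomial.Homogeneous

/-!
# The degree is a homogeneous polynomial function of degree `2 g` on endomorphisms
-/

universe u

open CategoryTheory Limits AlgebraicGeometry MonoidalCategory CartesianMonoidalCategory MonObj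
open scoped GrpObj

set_option linter.style.haveILetI false
set_option backward.isDefEq.respectTransparency false

namespace Groth.Agent.AVDegree22

noncomputable local instance (Y : Scheme.{u}) : PicGrp.Law Y := M2.law Y

theorem eval_aeval' {σ τ : Type*} (x : τ → ℚ) (sub : σ → MvPolynomial τ ℚ) (p : MvPolynomial σ ℚ) :
    MvPolynomial.eval x (MvPolynomial.aeval sub p) = MvPolynomial.eval (fun i => MvPolynomial.eval x (sub i)) p := by
  induction p using MvPolynomial.induction_on with
  | C a => simp
  | add p q hp hq => rw [map_add, map_add, hp, hq, map_add]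
  | mul_X p i hp => rw [_root_.map_mul, _root_.map_mul, hp, MvPolynomial.aeval_X, _root_.map_mul, MvPolynomial.eval_X]

/-- The top coefficient along a line is the top homogeneous component. -/
theorem coeff_aeval_line {σ : Type*} (Q : MvPolynomial σ ℚ) {g : ℕ} (hQ : Q.totalDegree ≤ g) (v : σ → ℚ) :
    (MvPolynomial.aeval (fun p => Polynomial.C (v p) * Polynomial.X) Q).natDegree ≤ g ∧
      (MvPolynomial.aeval (fun p => Polynomial.C (v p) * Polynomial.X) Q).coeff g =
        MvPolynomial.eval v (MvPolynomial.homogeneousComponent g Q) := by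
  classical
  have key : ∀ d : σ →₀ ℕ, ∀ c : ℚ, MvPolynomial.aeval (fun p => Polynomial.C (v p) * Polynomial.X)
      (MvPolynomial.monomial d c) = Polynomial.C (c * d.prod fun p e => v p ^ e) * Polynomial.X ^ d.degree := by
    intro d c
    rw [MvPolynomial.aeval_monomial, ← Polynomial.C_eq_algebraMap, Finsupp.prod, Finsupp.prod,
      Finsupp.degree_apply, Polynomial.C_mul, map_prod, _root_.mul_assoc, ← Finset.prod_pow_eq_pow_sum,
      ← Finset.prod_mul_distrib]
    simp only [_root_.mul_pow, _root_.map_pow]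
  refine ⟨?_, ?_⟩
  · conv_lhs => rw [Q.as_sum, map_sum]
    refine Polynomial.natDegree_sum_le_of_forall_le _ _ fun d hd => ?_
    rw [key]
    refine (Polynomial.natDegree_C_mul_X_pow_le _ _).trans ((MvPolynomial.le_totalDegree hd).trans hQ |>.trans' ?_)
    rw [Finsupp.degree_apply]
    rfl
  · conv_lhs => rw [Q.as_sum, map_sum, Polynomial.finsetSum_coeff]
    rw [MvPolynomial.homogeneousComponent_apply, map_sum, Finset.sum_filter]
    refine Finset.sum_congr rfl fun d _ => ?_
    rw [key, Polynomial.coeff_C_mul_X_pow, MvPolynomial.eval_monomial]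
    simp only [eq_comm (a := g)]

variable {k : Type u} [Field k] {A : Over (Spec (CommRingCat.of k))}
  [GrpObj A] [IsProper A.hom] [GeometricallyIntegral A.hom]

theorem isMonHom_prod_pow [IsCommMonObj A] {r : ℕ} (f : Fin r → (A ⟶ A)) [∀ i, IsMonHom (f i)] (c : Fin r → ℕ)
    (s : Finset (Fin r)) : IsMonHom (∏ i ∈ s, f i ^ c i) := by
  induction s using Finset.induction_on with
  | empty => exact inferInstanceAs (IsMonHom (toUnit A ≫ η[A]))
  | insert i s hi ih =>
    haveI := TateTors22.isMonHom_pow (A := A) (c i)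
    haveI : IsMonHom (f i ^ c i) := by
      rw [← TateTors22.comp_pow_id]; infer_instance
    rw [Finset.prod_insert hi, Hom.mul_def]
    infer_instance

/-- The class of the square of the pullback of `L` along a combination of endomorphisms. -/
theorem P_sq_prod_pow [IsCommMonObj A] {L : A.left.Modules} {hL : PicF.IsInvertible L}
    (hsym : Nonempty (L ≅ (Scheme.Modules.pullback ((𝟙 A)⁻¹).left).obj L))
    {V : Over (Spec (CommRingCat.of k))} {r : ℕ} (f : Fin r → (V ⟶ A)) (c : Fin r → ℕ) :
    CubeField.P L hL (∏ i, f i ^ c i) ^ 2 =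
      ∏ p : Fin r × Fin r, CubeField.D L hL (f p.1) (f p.2) ^ (c p.1 * c p.2) := by
  classical
  have hself : ∀ x : V ⟶ A, CubeField.D L hL x x = CubeField.P L hL x ^ 2 := fun x => by
    have h0 : CubeField.P L hL (𝟙 A)⁻¹ = CubeField.P L hL (𝟙 A) := by
      rw [CubeField.P_id]
      exact Subtype.ext (M2.cl_eq_of_iso hsym.some.symm)
    have h1 := congrArg (PicGrp.pullHom x.left (M2.pullMul _)) h0
    rw [CubeField.pullHom_P, CubeField.pullHom_P, GrpObj.comp_inv, Category.comp_id] at h1
    rw [CubeField.D_self CubeField.finH1, h1, sq]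
  have hone : ∀ x : V ⟶ A, CubeField.D L hL x 1 = 1 := fun x => by
    rw [← pow_zero x, CubeField.D_pow_right CubeField.finH1, pow_zero]
  have hsymD : ∀ a b : V ⟶ A, CubeField.D L hL a b = CubeField.D L hL b a := fun a b => by
    rw [CubeField.D, CubeField.D, _root_.mul_comm a b, _root_.mul_comm (CubeField.P L hL a)]
  have hr : ∀ (x : V ⟶ A) (s : Finset (Fin r)), CubeField.D L hL x (∏ i ∈ s, f i ^ c i) =
      ∏ i ∈ s, CubeField.D L hL x (f i) ^ c i := fun x s => by
    induction s using Finset.induction_on with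
    | empty => exact hone x
    | insert i s hi ih =>
      rw [Finset.prod_insert hi, Finset.prod_insert hi, CubeField.D_mul_right CubeField.finH1,
        CubeField.D_pow_right CubeField.finH1, ih]
  rw [← hself, hr, Fintype.prod_prod_type]
  refine Eq.trans (Finset.prod_congr rfl fun i _ => ?_) Finset.prod_comm
  rw [hsymD, hr, ← Finset.prod_pow]
  refine Finset.prod_congr rfl fun j _ => ?_
  rw [← pow_mul, hsymD, mul_comm]

/-- The degree on endomorphisms with natural coefficients is a homogeneous polynomial of degree `2 g`. -/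
theorem exists_degree_form {g : ℕ} (hg : topologicalKrullDim A.left = g) {r : ℕ} (f : Fin r → (A ⟶ A))
    [∀ i, IsMonHom (f i)] [IsCommMonObj A] :
    ∃ F : MvPolynomial (Fin r) ℚ, F.IsHomogeneous (2 * g) ∧ ∀ c : Fin r → ℕ, IsFinite (∏ i, f i ^ c i).left →
      ∀ a : A.left, (Scheme.Hom.finrank (∏ i, f i ^ c i).left a : ℚ) =
        MvPolynomial.eval (fun i => (c i : ℚ)) F := by
  classical
  haveI : IsIntegral A.left := GeometricallyIntegral.isIntegral_of_subsingleton A.hom
  rcases g with _ | n
  · refine ⟨1, MvPolynomial.isHomogeneous_one _ _, fun c hfin a => ?_⟩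
    haveI : Subsingleton A.left := by
      refine ⟨fun a b => ?_⟩
      have hmin : ∀ a : A.left, a = genericPoint A.left := fun a => by
        by_contra hne
        have h2 := VarDim.sdim_lt_of_specializes A.hom (x := genericPoint A.left) (y := a)
          ((genericPoint_spec A.left).specializes trivial) (Ne.symm hne)
        have h3 := VarDim.dim_eq_sdim_genericPoint A.hom
        rw [hg] at h3
        have : VarDim.sdim A.hom (genericPoint A.left) = 0 := by exact_mod_cast h3.symm
        omega
      rw [hmin a, hmin b]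
    haveI : IsClosedImmersion (η[A].left) :=
      isClosedImmersion_of_comp_eq_id (Y := Spec (.of k)) A.hom η[A].left (Over.w η[A])
    haveI : Surjective (η[A].left) := ⟨fun a => ⟨IsLocalRing.closedPoint k, Subsingleton.elim _ _⟩⟩
    haveI : IsIso (η[A].left) := isIso_of_isClosedImmersion_of_surjective (η[A].left)
    haveI : IsIso ((Over.forget _).map η[A]) := ‹IsIso η[A].left›
    haveI : IsIso η[A] := isIso_of_reflects_iso η[A] (Over.forget _)
    haveI := isMonHom_prod_pow f c Finset.univ
    have h1 : (∏ i, f i ^ c i) = 𝟙 A := by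
      rw [← cancel_epi η[A], Category.comp_id]
      exact IsMonHom.one_hom _
    haveI : IsIso (∏ i, f i ^ c i).left := by
      rw [h1]; exact inferInstanceAs (IsIso (𝟙 A.left))
    rw [Scheme.Hom.finrank_eq_one_of_isIso]
    simp
  obtain ⟨L, hLa, hsym⟩ := CubeField.exists_isAmple_symmetric A
  have hL := hLa.1
  let L2 := CohB1.tensorPow L 2
  have hL2 : CohB1.IsAmple L2 := (Amp.isAmple_tensorPow_iff hL (n := 2) two_pos).2 hLa
  obtain ⟨e, a, S, he, hS⟩ := exists_system hg hL2
  let M := CohB1.tensorPow L2 e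
  have hM : CohB1.IsAmple M := (Amp.isAmple_tensorPow_iff hL2.1 he).2 hL2
  obtain ⟨D, b, hb, hbR⟩ := (S.toCharts hg).exists_basis
  have hD : 0 < D := hb.pos (S.toCharts hg).indep
  choose E hE hEc using fun p : Fin (r * r) => PicGrp.exists_eq_cls
    (CubeField.D L hL (f (finProdFinEquiv.symm p).1) (f (finProdFinEquiv.symm p).2))
  letI : A.left.Over (Spec (CommRingCat.of k)) := ⟨A.hom⟩
  obtain ⟨Q, hQ, hQe⟩ := exists_euler_class (n + 1) hg.le E hE
  let sub : Fin (r * r) → MvPolynomial (Fin r) ℚ := fun p => MvPolynomial.C (e : ℚ) *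
    (MvPolynomial.X (finProdFinEquiv.symm p).1 * MvPolynomial.X (finProdFinEquiv.symm p).2)
  refine ⟨MvPolynomial.C ((n + 1).factorial / D : ℚ) *
    MvPolynomial.aeval sub (MvPolynomial.homogeneousComponent (n + 1) Q), ?_, fun c hfin x => ?_⟩
  · have hh := ((MvPolynomial.isHomogeneous_C _ ((n + 1).factorial / D : ℚ)).mul
      ((MvPolynomial.homogeneousComponent_isHomogeneous (n + 1) Q).aeval sub fun p =>
        (MvPolynomial.isHomogeneous_C _ (e : ℚ)).mul ((MvPolynomial.isHomogeneous_X _ _).mul
          (MvPolynomial.isHomogeneous_X _ _))))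
    simpa [sub, two_mul] using hh
  set φ := ∏ i, f i ^ c i with hφ
  haveI : IsMonHom φ := isMonHom_prod_pow f c Finset.univ
  haveI := hfin
  haveI : Surjective φ.left := AbRigid.surjective_of_isFinite A A φ rfl
  haveI : Flat φ.left := AbRigid.flat_of_surjective A A φ
  haveI : IsDominant φ.left := ⟨φ.left.surjective.denseRange⟩
  haveI : LocallyOfFinitePresentation φ.left := by
    haveI : IsLocallyNoetherian A.left := LocallyOfFiniteType.isLocallyNoetherian A.hom
    exact inferInstance
  obtain ⟨-, b', hb', hb'R⟩ := exists_basis_comp φ S hg hg hb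
  let N := (Scheme.Modules.pullback φ.left).obj M
  have hN : CohB1.IsAmple N := Amp.isAmple_pullback_of_isAffineHom φ.left hM
  let v : Fin (r * r) → ℕ := fun p => e * (c (finProdFinEquiv.symm p).1 * c (finProdFinEquiv.symm p).2)
  have hcls : ∀ m : ℕ, PicGrp.cls (CohB1.tensorPow N m) (M2.isInvertible_tensorPow hN.1 m) =
      ∏ p, PicGrp.cls (E p) (hE p) ^ (m * v p) := by
    intro m
    have hN0 : PicGrp.cls N hN.1 = (CubeField.P L hL φ ^ 2) ^ e := by
      refine Eq.trans ?_ (by rw [_root_.map_pow, _root_.map_pow, PicGrp.pullHom_cls]; rfl :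
          PicGrp.pullHom φ.left (M2.pullMul _) ((PicGrp.cls L hL ^ 2) ^ e) = _)
      refine Eq.trans (PicGrp.pullHom_cls φ.left (M2.pullMul _) M hM.1).symm (congrArg _ ?_)
      refine Subtype.ext ?_
      rw [PicGrp.cls_val]
      rw [show (PicGrp.cls L hL ^ 2) = PicGrp.cls L2 hL2.1 from Subtype.ext (by
        rw [PicGrp.cls_pow_val, PicGrp.cls_val]), PicGrp.cls_pow_val]
    have hm : PicGrp.cls (CohB1.tensorPow N m) (M2.isInvertible_tensorPow hN.1 m) = PicGrp.cls N hN.1 ^ m :=
      Subtype.ext (by rw [PicGrp.cls_pow_val, PicGrp.cls_val])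
    rw [hm, hN0, hφ, P_sq_prod_pow hsym, ← finProdFinEquiv.symm.prod_comp, ← pow_mul, ← Finset.prod_pow]
    refine Finset.prod_congr rfl fun p _ => ?_
    rw [← hEc, ← pow_mul]
    congr 1
    simp only [v]
    ring
  obtain ⟨hP, hPc⟩ := coeff_aeval_line Q hQ (fun p => (v p : ℚ))
  have hlead := exists_euler_poly hg hN (hS.pull φ) hb' hb'R _ hP fun m => by
    rw [hQe (fun p => m * v p) _ (M2.isInvertible_tensorPow hN.1 m) (hcls m)]
    rw [← Polynomial.coe_evalRingHom, MvPolynomial.aeval_def, MvPolynomial.eval₂_comp_left,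
      ← MvPolynomial.coe_eval₂Hom, MvPolynomial.eval]
    refine congrArg₂ (fun (φ : ℚ →+* ℚ) (h : Fin (r * r) → ℚ) => MvPolynomial.eval₂Hom φ h Q)
      (Subsingleton.elim _ _) (funext fun p => ?_)
    simp [mul_comm]
  rw [hPc] at hlead
  rw [finrank_eq_genericPoint φ, finrank_genericPoint φ, _root_.map_mul, MvPolynomial.eval_C, eval_aeval',
    show (fun p => MvPolynomial.eval (fun i => (c i : ℚ)) (sub p)) = fun p => (v p : ℚ) from
      funext fun p => by simp [sub, v], hlead, Nat.cast_mul]
  field_simp

end Groth.Agent.AVDegree22
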