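import Groth.Agent.Lib.AVDegree22.Sys

/-!
# Powers, pullbacks and comparison of systems of charts
-/

universe u

open CategoryTheory AlgebraicGeometry TopologicalSpace

set_option backward.isDefEq.respectTransparency false
set_option linter.style.haveILetI false

namespace Groth.Agent.AVDegree22

variable {k : Type u} [Field k]

section FieldMap

variable {X Y : Over (Spec (CommRingCat.of k))} [IsIntegral X.left] [IsIntegral Y.left] (f : Y ⟶ X)
  [IsDominant f.left]

theorem map_generic : f.left (genericPoint Y.left) = genericPoint X.left := by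
  refine ((genericPoint_spec Y.left).image f.left.continuous).eq ?_
  rw [Set.image_univ, f.left.denseRange.closure_range]
  exact genericPoint_spec X.left

/-- The map of function fields. -/
noncomputable def fieldMap : X.left.functionField →ₐ[k] Y.left.functionField where
  toRingHom := (X.left.presheaf.stalkSpecializes (map_generic f ▸ specializes_rfl :
    f.left (genericPoint Y.left) ⤳ genericPoint X.left) ≫ f.left.stalkMap (genericPoint Y.left)).hom
  commutes' c := by
    show (f.left.stalkMap (genericPoint Y.left)) (X.left.presheaf.stalkSpecializes _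
      (X.left.presheaf.germ ⊤ (genericPoint X.left) trivial _)) = _
    rw [TopCat.Presheaf.germ_stalkSpecializes_apply, Scheme.Hom.germ_stalkMap_apply]
    have hw : Y.hom.appTop = X.hom.appTop ≫ f.left.appTop := by
      rw [← Scheme.Hom.comp_appTop, Over.w f]
    show _ = Y.left.presheaf.germ ⊤ (genericPoint Y.left) trivial
      (Y.hom.appTop ((Scheme.ΓSpecIso (CommRingCat.of k)).inv c))
    rw [hw]
    rfl

theorem fieldMap_val {U : X.left.Opens} (hU : genericPoint X.left ∈ U) (a : Γ(X.left, U)) :
    fieldMap f (val U hU a) = val (f.left ⁻¹ᵁ U) (show f.left (genericPoint Y.left) ∈ U from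
      (map_generic f).symm ▸ hU) (f.left.app U a) := by
  show (f.left.stalkMap (genericPoint Y.left)) (X.left.presheaf.stalkSpecializes _
    (X.left.presheaf.germ U (genericPoint X.left) hU a)) = _
  rw [TopCat.Presheaf.germ_stalkSpecializes_apply, Scheme.Hom.germ_stalkMap_apply]
  rfl

theorem exists_fieldMap_eq {z : Y.left} {t : X.left.functionField} (ht : t ∈ regAt (f.left z)) :
    ∃ r : X.left.presheaf.stalk (f.left z),
      X.left.presheaf.stalkSpecializes ((genericPoint_spec X.left).specializes trivial :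
        genericPoint X.left ⤳ f.left z) r = t ∧
      Y.left.presheaf.stalkSpecializes ((genericPoint_spec Y.left).specializes trivial :
        genericPoint Y.left ⤳ z) (f.left.stalkMap z r) = fieldMap f t := by
  obtain ⟨r, rfl⟩ := ht
  obtain ⟨U, hzU, a, rfl⟩ := X.left.presheaf.exists_germ_eq r
  refine ⟨_, rfl, ?_⟩
  have hU : genericPoint X.left ∈ U := ((genericPoint_spec X.left).specializes trivial).mem_open U.2 hzU
  rw [val_eq_specializes hU hzU, fieldMap_val, Scheme.Hom.germ_stalkMap_apply]
  exact val_eq_specializes _ _ _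

theorem fieldMap_mem_regAt {z : Y.left} {t : X.left.functionField} (ht : t ∈ regAt (f.left z)) :
    fieldMap f t ∈ regAt z := by
  obtain ⟨r, -, hr⟩ := exists_fieldMap_eq f ht
  exact ⟨_, hr⟩

theorem inv_mem_regAt_of_fieldMap {z : Y.left} {t : X.left.functionField} (ht : t ∈ regAt (f.left z))
    (ht0 : t ≠ 0) (h : (fieldMap f t)⁻¹ ∈ regAt z) : t⁻¹ ∈ regAt (f.left z) := by
  obtain ⟨r, hr, hr'⟩ := exists_fieldMap_eq f ht
  obtain ⟨U, hzU, a, rfl⟩ := X.left.presheaf.exists_germ_eq r
  have hU : genericPoint X.left ∈ U := ((genericPoint_spec X.left).specializes trivial).mem_open U.2 hzU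
  rw [val_eq_specializes hU hzU] at hr
  subst hr
  rw [fieldMap_val] at h
  have hne : fieldMap f (val U hU a) ≠ 0 := (map_ne_zero_iff _ (fieldMap f).injective).2 ht0
  rw [fieldMap_val] at hne
  have h1 := (isUnit_germ_iff (U := f.left ⁻¹ᵁ U) _ (show z ∈ f.left ⁻¹ᵁ U from hzU) _ hne).2 h
  rw [← Scheme.preimage_basicOpen] at h1
  exact (isUnit_germ_iff hU hzU a ht0).1 h1

end FieldMap

namespace SecSys

variable {X : Over (Spec (CommRingCat.of k))} [IsIntegral X.left] {n : ℕ} (S : SecSys X n)

/-- Powers. -/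
noncomputable def pow (q : ℕ) (hq : 0 < q) : SecSys X n where
  U := S.U
  affine := S.affine
  generic := S.generic
  cover := S.cover
  x i := S.x i ^ q
  x_zero := by rw [S.x_zero, one_pow]
  x_ne i := pow_ne_zero _ (S.x_ne i)
  mem i l := by rw [← div_pow]; exact pow_mem (S.mem i l) q
  locus i l z hz h := S.locus i l z hz (by
    rw [← div_pow] at h
    have e : S.x i / S.x l = (S.x l / S.x i) ^ (q - 1) * (S.x i / S.x l) ^ q := by
      obtain ⟨p, rfl⟩ := Nat.exists_eq_add_of_le hq
      rw [Nat.add_sub_cancel_left, pow_add, pow_one, mul_left_comm, ← mul_pow, div_mul_div_comm,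
        mul_comm (S.x i), div_self (mul_ne_zero (S.x_ne _) (S.x_ne _)), one_pow, mul_one]
    rw [e]
    exact mul_mem (pow_mem (mem_reg.1 (S.mem i l) z hz) _) h)

variable {Y : Over (Spec (CommRingCat.of k))} [IsIntegral Y.left] (f : Y ⟶ X) [IsDominant f.left]
  [IsAffineHom f.left]

/-- Pullback. -/
noncomputable def pull : SecSys Y n where
  U i := f.left ⁻¹ᵁ S.U i
  affine i := (S.affine i).preimage f.left
  generic i := show f.left (genericPoint Y.left) ∈ S.U i from (map_generic f).symm ▸ S.generic i
  cover z := S.cover (f.left z)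
  x i := fieldMap f (S.x i)
  x_zero := by rw [S.x_zero, map_one]
  x_ne i := (map_ne_zero_iff _ (fieldMap f).injective).2 (S.x_ne i)
  mem i l := mem_reg.2 fun z hz => by
    rw [← map_div₀]
    exact fieldMap_mem_regAt f (mem_reg.1 (S.mem i l) _ hz)
  locus i l z hz h := S.locus i l _ hz (by
    rw [← map_div₀] at h
    have h1 := inv_mem_regAt_of_fieldMap f (mem_reg.1 (S.mem i l) _ hz) (div_ne_zero (S.x_ne _) (S.x_ne _))
      (by rw [← map_inv₀, inv_div]; exact h)
    rwa [inv_div] at h1)

variable [IsProper X.hom] (hdim : topologicalKrullDim X.left = (n + 1 : ℕ))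

theorem toCharts_x (l : Fin (n + 1)) : (S.toCharts hdim).x l = S.x l.succ := rfl

/-- Linearly equivalent systems. -/
def Compat (T : SecSys X n) (u : X.left.functionField) : Prop :=
  u ≠ 0 ∧ ∀ i j, ∀ z ∈ S.U i ⊓ T.U j,
    u * S.x i / T.x j ∈ regAt z ∧ T.x j / (u * S.x i) ∈ regAt z

theorem Compat.symm {T : SecSys X n} {u : X.left.functionField} (h : S.Compat T u) : T.Compat S u⁻¹ :=
  ⟨inv_ne_zero h.1, fun j i z hz => by
    obtain ⟨h1, h2⟩ := h.2 i j z ⟨hz.2, hz.1⟩
    constructor
    · rw [show u⁻¹ * T.x j / S.x i = T.x j / (u * S.x i) by rw [← div_eq_inv_mul, div_div]]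
      exact h2
    · rw [show S.x i / (u⁻¹ * T.x j) = u * S.x i / T.x j by rw [← div_div, div_inv_eq_mul, mul_comm]]
      exact h1⟩

theorem Compat.mul_mem {T : SecSys X n} {u : X.left.functionField} (h : S.Compat T u) {m : ℕ}
    {g : X.left.functionField} (hg : g ∈ (S.toCharts hdim).V m) : g * u ^ m ∈ (T.toCharts hdim).V m := by
  refine (Charts.mem_V _).2 fun j => mem_reg.2 fun z hz => ?_
  obtain ⟨i, hi⟩ := S.cover z
  have h1 := mem_reg.1 ((Charts.mem_V _).1 hg i) z hi
  change g * u ^ m / T.x j ^ m ∈ regAt z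
  change g / S.x i ^ m ∈ regAt z at h1
  rw [show g * u ^ m / T.x j ^ m = g / S.x i ^ m * (u * S.x i / T.x j) ^ m by
    rw [div_pow, mul_pow]
    have := pow_ne_zero m (S.x_ne i)
    field_simp]
  exact Subalgebra.mul_mem _ h1 (pow_mem (h.2 i j z ⟨hi, hz⟩).1 m)

theorem Compat.finrank_eq {T : SecSys X n} {u : X.left.functionField} (h : S.Compat T u) (m : ℕ) :
    Module.finrank k ((S.toCharts hdim).V m) = Module.finrank k ((T.toCharts hdim).V m) := by
  have hum : u ^ m ≠ 0 := pow_ne_zero m h.1
  have e : ((S.toCharts hdim).V m).map (LinearMap.mulRight k (u ^ m)) = (T.toCharts hdim).V m := by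
    refine le_antisymm ?_ fun g hg => ⟨g * (u⁻¹) ^ m, ?_, ?_⟩
    · rintro _ ⟨g, hg, rfl⟩
      exact h.mul_mem S hdim hg
    · exact Compat.mul_mem T hdim (h.symm S) hg
    · simp [LinearMap.mulRight_apply, mul_assoc, inv_pow, hum]
  rw [← e]
  exact (Submodule.equivMapOfInjective _ (mul_left_injective₀ hum) _).finrank_eq

theorem finrank_pow (q : ℕ) (hq : 0 < q) (m : ℕ) :
    Module.finrank k (((S.pow q hq).toCharts hdim).V m) = Module.finrank k ((S.toCharts hdim).V (q * m)) := by
  suffices e : ((S.pow q hq).toCharts hdim).V m = (S.toCharts hdim).V (q * m) by rw [e]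
  ext g
  rw [Charts.mem_V, Charts.mem_V]
  simp only [toCharts, pow, pow_mul]

end SecSys

end Groth.Agent.AVDegree22
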