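import Groth.Agent.Lib.AVDegree22.Sections
import Groth.Agent.Lib.AVDegree22.Count
import Groth.Agent.Lib.AVDegree22.Ops
import Groth.Agent.Lib.Snapper.Main
import Groth.Agent.Lib.Snapper.Vanish
import Groth.Agent.Lib.CohFound.RelVan
import Groth.Agent.Lib.CubeField.Mumford22
import Mathlib.Analysis.SpecificLimits.Basic
import Mathlib.Topology.Algebra.Polynomial
import Mathlib.Topology.Instances.Rat

/-!
# The leading term of the Euler characteristics of the powers of an ample module
-/

universe u

open CategoryTheory AlgebraicGeometry TopologicalSpace Filter Topology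

set_option backward.isDefEq.respectTransparency false
set_option linter.style.haveILetI false

namespace Groth.Agent.AVDegree22

noncomputable local instance (Y : Scheme.{u}) : PicGrp.Law Y := M2.law Y

/-- The top coefficient of a polynomial of bounded degree is the limit of its normalised values. -/
theorem tendsto_coeff_of_natDegree_le (P : Polynomial ℚ) {g : ℕ} (hP : P.natDegree ≤ g) :
    Tendsto (fun m : ℕ => P.eval (m : ℚ) / (m : ℚ) ^ g) atTop (𝓝 (P.coeff g)) := by
  have h : ∀ i ∈ Finset.range (g + 1), Tendsto (fun m : ℕ => P.coeff i * (m : ℚ) ^ i / (m : ℚ) ^ g) atTop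
      (𝓝 (if i = g then P.coeff g else 0)) := by
    intro i hi
    rcases eq_or_ne i g with rfl | hne
    · rw [if_pos rfl]
      refine tendsto_const_nhds.congr' ?_
      filter_upwards [eventually_ge_atTop 1] with m hm
      rw [mul_div_assoc, div_self (pow_ne_zero _ (by exact_mod_cast (show m ≠ 0 by omega))), mul_one]
    · rw [if_neg hne]
      have hlt : i < g := by have := Finset.mem_range.1 hi; omega
      have := ((tendsto_pow_div_pow_atTop_zero (𝕜 := ℚ) hlt).comp tendsto_natCast_atTop_atTop).const_mul (P.coeff i)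
      rw [mul_zero] at this
      exact this.congr fun m => (mul_div_assoc _ _ _).symm
  have hs := tendsto_finsetSum _ h
  rw [Finset.sum_ite_eq', if_pos (Finset.mem_range.2 (Nat.lt_succ_self g))] at hs
  refine hs.congr fun m => ?_
  rw [Polynomial.eval_eq_sum_range' (Nat.lt_succ_of_le hP), Finset.sum_div]

theorem tendsto_shift_pow (c : ℚ) (g : ℕ) :
    Tendsto (fun m : ℕ => ((m : ℚ) + c) ^ g / (m : ℚ) ^ g) atTop (𝓝 1) := by
  have h0 : Tendsto (fun m : ℕ => c / (m : ℚ)) atTop (𝓝 0) :=
    tendsto_const_nhds.div_atTop tendsto_natCast_atTop_atTop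
  have := ((tendsto_const_nhds (x := (1 : ℚ))).add h0).pow g
  rw [add_zero, one_pow] at this
  refine this.congr' ?_
  filter_upwards [eventually_ge_atTop 1] with m hm
  have hm' : (m : ℚ) ≠ 0 := by exact_mod_cast (show m ≠ 0 by omega)
  rw [← div_pow]
  congr 1
  field_simp

variable {k : Type u} [Field k] {X : Over (Spec (CommRingCat.of k))} [IsIntegral X.left] [IsProper X.hom]
  {M : X.left.Modules} {n : ℕ}

/-- For large powers of an ample module the Euler characteristic counts the sections. -/
theorem euler_eventually {S : SecSys X n} {a : Fin (n + 2) → (Coh.structureModule X.left ⟶ M)}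
    (hdim : topologicalKrullDim X.left = (n + 1 : ℕ)) (hM : CohB1.IsAmple M) (h : S.IsOf M a) :
    letI : X.left.Over (Spec (CommRingCat.of k)) := ⟨X.hom⟩
    ∃ m₀, ∀ m, m₀ ≤ m → Curv2.euler k X.left (CohB1.tensorPow M m) =
      (Module.finrank k ((S.toCharts hdim).V m) : ℤ) := by
  letI : X.left.Over (Spec (CommRingCat.of k)) := ⟨X.hom⟩
  haveI : IsProper (X.left ↘ Spec (CommRingCat.of k)) := ‹IsProper X.hom›
  obtain ⟨n₀, hn₀⟩ := CohFound.exists_vanishing_all X.hom hM (M1.isCoh_structureModule X.left)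
    (M := Coh.structureModule X.left)
  refine ⟨n₀ + 1, fun m hm => ?_⟩
  have hvan : ∀ p, p ≠ 0 → Subsingleton (Coh.HH X.left (CohB1.tensorPow M m) p) := fun p hp =>
    (CohFound.subsingleton_HH_iff _ p).2 (CohFound.subsingleton_hc_of_iso (M2.tensorLUnit _) p _
      (hn₀ m (by omega) p (Nat.pos_of_ne_zero hp)))
  rw [Curv2.euler, finsum_eq_single _ 0 fun p hp => by
    haveI := hvan p hp
    simp [Module.finrank_zero_of_subsingleton]]
  rw [pow_zero, one_mul, finrank_HH_zero (h.pow m (by omega)) hdim, S.finrank_pow hdim m (by omega), mul_one]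

/-- The Euler characteristics of the powers of an ample module form a polynomial with leading
coefficient the degree of the system over the factorial. -/
theorem exists_euler_poly {S : SecSys X n} {a : Fin (n + 2) → (Coh.structureModule X.left ⟶ M)}
    (hdim : topologicalKrullDim X.left = (n + 1 : ℕ)) (hM : CohB1.IsAmple M) (h : S.IsOf M a) {D : ℕ}
    {b : Fin D → X.left.functionField} (hb : IsPolyBasis (k := k) (S.toCharts hdim).x b)
    (hbR : ∀ j, b j ∈ (S.toCharts hdim).R 0) :
    letI : X.left.Over (Spec (CommRingCat.of k)) := ⟨X.hom⟩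
    ∀ P : Polynomial ℚ, P.natDegree ≤ n + 1 →
      (∀ m : ℕ, (Curv2.euler k X.left (CohB1.tensorPow M m) : ℚ) = P.eval (m : ℚ)) →
      P.coeff (n + 1) = D / (n + 1).factorial := by
  letI : X.left.Over (Spec (CommRingCat.of k)) := ⟨X.hom⟩
  intro P hP hPe
  obtain ⟨m₀, hm₀⟩ := euler_eventually hdim hM h
  obtain ⟨c, hc⟩ := (S.toCharts hdim).exists_upper hb
  obtain ⟨a', ha'⟩ := (S.toCharts hdim).exists_lower hb hbR
  refine tendsto_nhds_unique (tendsto_coeff_of_natDegree_le P hP) ?_
  set g := n + 1
  have hg : (0 : ℚ) < g.factorial := by exact_mod_cast g.factorial_pos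
  have hlim : ∀ x : ℚ, Tendsto (fun m : ℕ => (D : ℚ) / g.factorial * (((m : ℚ) + x) ^ g / (m : ℚ) ^ g)) atTop
      (𝓝 ((D : ℚ) / g.factorial)) := fun x => by
    simpa using (tendsto_shift_pow x g).const_mul ((D : ℚ) / g.factorial)
  refine tendsto_of_tendsto_of_tendsto_of_le_of_le' (hlim (-(a' : ℚ))) (hlim ((c + g : ℕ) : ℚ)) ?_ ?_
  all_goals
    filter_upwards [eventually_ge_atTop (m₀ + a' + 1)] with m hm
    rw [← hPe m, hm₀ m (by omega), ← mul_div_assoc]
    refine div_le_div_of_nonneg_right ?_ (by positivity)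
    rw [div_mul_eq_mul_div]
  · rw [div_le_iff₀ hg]
    obtain ⟨l, rfl⟩ : ∃ l, m = l + a' := ⟨m - a', by omega⟩
    have h1 : D * l ^ g ≤ Module.finrank k ((S.toCharts hdim).V (l + a')) * g.factorial :=
      calc D * l ^ g ≤ D * ((l + g).choose g * g.factorial) := Nat.mul_le_mul_left _ (pow_le_choose_mul g l)
        _ = D * (l + g).choose g * g.factorial := (Nat.mul_assoc _ _ _).symm
        _ ≤ _ := Nat.mul_le_mul_right _ (ha' l)
    push_cast
    rw [add_neg_cancel_right]
    exact_mod_cast h1
  · rw [le_div_iff₀ hg]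
    have h1 : Module.finrank k ((S.toCharts hdim).V m) * g.factorial ≤ D * (m + (c + g)) ^ g :=
      calc _ ≤ D * (m + c + g).choose g * g.factorial := Nat.mul_le_mul_right _ (hc m).2
        _ = D * ((m + c + g).choose g * g.factorial) := Nat.mul_assoc _ _ _
        _ ≤ D * (m + c + g) ^ g := Nat.mul_le_mul_left _ (choose_mul_le_pow g _)
        _ = _ := by rw [add_assoc]
    exact_mod_cast h1

/-- The Euler characteristic is polynomial in the exponents of a class. -/
theorem exists_euler_class (g : ℕ) (hdim : topologicalKrullDim X.left ≤ (g : WithBot ℕ∞)) {N : ℕ}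
    (L : Fin N → X.left.Modules) (hL : ∀ i, PicF.IsInvertible (L i)) :
    letI : X.left.Over (Spec (CommRingCat.of k)) := ⟨X.hom⟩
    ∃ P : MvPolynomial (Fin N) ℚ, P.totalDegree ≤ g ∧
      ∀ (m : Fin N → ℕ) (W : X.left.Modules) (hW : PicF.IsInvertible W),
        PicGrp.cls W hW = ∏ i, PicGrp.cls (L i) (hL i) ^ m i →
          (Curv2.euler k X.left W : ℚ) = MvPolynomial.eval (fun i => (m i : ℚ)) P := by
  letI : X.left.Over (Spec (CommRingCat.of k)) := ⟨X.hom⟩
  haveI : IsProper (X.left ↘ Spec (CommRingCat.of k)) := ‹IsProper X.hom›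
  obtain ⟨P, hP, hPe⟩ := Snapper.snapper X.left k g (Coh.structureModule X.left)
    (M1.isCoh_structureModule X.left) (Topology.IsInducing.subtypeVal.topologicalKrullDim_le.trans hdim) N L hL
  refine ⟨P, hP, fun m W hW hcl => ?_⟩
  have key : ∀ l : List (Fin N), ∃ hl : PicF.IsInvertible (FGA.tensorList (l.map fun i => CohB1.tensorPow (L i) (m i))),
      PicGrp.cls _ hl = (l.map fun i => PicGrp.cls (L i) (hL i) ^ m i).prod := by
    intro l
    induction l with
    | nil => exact ⟨PicLoc.isInvertible_structureModule _, PicGrp.cls_structureModule_eq_one⟩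
    | cons i l ih =>
      obtain ⟨hl, e⟩ := ih
      refine ⟨M2.isInvertible_tensor (M2.isInvertible_tensorPow (hL i) _) hl, Subtype.ext ?_⟩
      simp only [List.map_cons, List.prod_cons, ← e, PicGrp.mul_val, PicGrp.cls_pow_val, PicGrp.cls_val,
        PicGrp.mulCl_cl, FGA.tensorList]
  obtain ⟨hl, e⟩ := key (List.finRange N)
  rw [← Fin.prod_univ_def, ← hcl] at e
  obtain ⟨θ⟩ := (PicGrp.cls_eq_cls_iff _ _).1 e
  refine Eq.trans ?_ (hPe m)
  exact congrArg Int.cast (CurveCoh17.euler_iso (M2.tensorLUnit (FGA.multiTwist L m) ≪≫ θ)).symm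

end Groth.Agent.AVDegree22
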