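import Groth.Agent.Lib.AVDegree22.Count2
import Groth.Agent.Lib.TateTors22.Divisible
import Groth.Prelude.Def_SGA7a
import Groth.Agent.Lib.AbRigid.SmoothGI

/-!
# The degree of multiplication by `n` and the number of torsion points
-/

universe u

open CategoryTheory Limits AlgebraicGeometry MonoidalCategory CartesianMonoidalCategory MonObj
open scoped GrpObj

set_option linter.style.haveILetI false
set_option backward.isDefEq.respectTransparency false

namespace Groth.Agent.AVDegree22

noncomputable local instance instLawMD (Y : Scheme.{u}) : PicGrp.Law Y := M2.law Y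

variable {k : Type u} [Field k] (A : Over (Spec (CommRingCat.of k)))
  [GrpObj A] [IsCommMonObj A] [IsProper A.hom] [GeometricallyIntegral A.hom]

/-- Multiplication by `n` multiplies a symmetric class by `n ^ 2`. -/
theorem exists_polarisation (n : ℕ) : ∃ L : A.left.Modules, CohB1.IsAmple L ∧
    Nonempty ((Scheme.Modules.pullback (𝟙 A ^ n).left).obj L ≅ CohB1.tensorPow L (n * n)) := by
  obtain ⟨L, hLa, hsym⟩ := CubeField.exists_isAmple_symmetric A
  have h := congrArg Subtype.val (TateTors22.P_pow_symm (B := A) hLa.1 hsym (𝟙 A) n)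
  rw [CubeField.P_id, CubeField.P, PicGrp.cls_val, PicGrp.cls_pow_val] at h
  exact ⟨L, hLa, (PicGrp.cl_eq_cl_iff _ _).1 h⟩

variable [IsIntegral A.left]

/-- The degree of multiplication by `n` is `n ^ (2 g)`. -/
theorem fieldDeg_pow {m : ℕ} (hdim : topologicalKrullDim A.left = (m + 1 : ℕ)) {n : ℕ} (hn : 0 < n)
    [IsDominant (𝟙 A ^ n).left] [IsAffineHom (𝟙 A ^ n).left] : fieldDeg (𝟙 A ^ n) = n ^ (2 * (m + 1)) := by
  obtain ⟨L, hLa, hiso⟩ := exists_polarisation A n
  rw [fieldDeg_eq_pow (𝟙 A ^ n) hdim hLa (Nat.mul_pos hn hn) hiso, pow_mul, pow_two]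

/-- The number of torsion points with values in an algebraically closed extension. -/
theorem card_tors (K : Type u) [Field K] [Algebra k K] [IsAlgClosed K] {g : ℕ}
    (hg : topologicalKrullDim A.left = g) {N : ℕ} (hN : (N : k) ≠ 0) :
    Nat.card (AbDual.torsPts A N (SGA7.pt (K := k) K)) = N ^ (2 * g) := by
  haveI : LocallyOfFiniteType A.hom := inferInstance
  obtain ⟨hf, he, hs⟩ := TateTors22.mul_props (A := A) hN
  haveI := hf
  haveI := he
  haveI := hs
  haveI : Flat (𝟙 A ^ N).left := inferInstance
  haveI : LocallyOfFinitePresentation (𝟙 A ^ N).left := inferInstance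
  haveI : IsDominant (𝟙 A ^ N).left := ⟨(𝟙 A ^ N).left.surjective.denseRange⟩
  let T : Over (Spec (CommRingCat.of k)) := SGA7.pt (K := k) K
  let Z : Over (Spec (CommRingCat.of k)) := Over.mk (pullback.snd (𝟙 A ^ N).left η[A].left)
  haveI : Etale Z.hom := MorphismProperty.pullback_snd _ _ ‹Etale (𝟙 A ^ N).left›
  haveI : IsFinite Z.hom := MorphismProperty.pullback_snd _ _ ‹IsFinite (𝟙 A ^ N).left›
  let i : Z ⟶ A := Over.homMk (pullback.fst (𝟙 A ^ N).left η[A].left) (by
    show pullback.fst (𝟙 A ^ N).left η[A].left ≫ A.hom = pullback.snd _ _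
    rw [← Over.w (𝟙 A ^ N), pullback.condition_assoc, Over.w η[A]]
    exact Category.comp_id _)
  have hone : ∀ y : T ⟶ Z, (y ≫ i) ^ N = 1 := fun y => by
    rw [← TateTors22.comp_pow_id]
    ext1
    show (y.left ≫ pullback.fst (𝟙 A ^ N).left η[A].left) ≫ (𝟙 A ^ N).left = _
    rw [Category.assoc, pullback.condition, ← Category.assoc, Hom.one_def, Over.comp_left]
    congr 1
    exact (Over.w y).trans rfl
  have hbij : Function.Bijective fun y : T ⟶ Z => (⟨y ≫ i, hone y⟩ : AbDual.torsPts A N T) := by
    refine ⟨fun a b h => ?_, fun x => ?_⟩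
    · have h1 := congrArg (fun t : T ⟶ A => t.left) (congrArg Subtype.val h)
      ext1
      exact pullback.hom_ext h1 ((Over.w a).trans (Over.w b).symm)
    · have hx : x.1.left ≫ (𝟙 A ^ N).left = Spec.map (CommRingCat.ofHom (algebraMap k K)) ≫ η[A].left := by
        have := congrArg (fun a : T ⟶ A => a.left) ((TateTors22.comp_pow_id x.1 N).trans x.2)
        simp only [Over.comp_left] at this
        rw [this, Hom.one_def, Over.comp_left]
        rfl
      refine ⟨Over.homMk (pullback.lift x.1.left _ hx) (pullback.lift_snd _ _ _), Subtype.ext ?_⟩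
      ext1
      exact pullback.lift_fst _ _ _
  rw [← Nat.card_eq_of_bijective _ hbij, card_points K]
  refine (Scheme.Hom.finrank_pullback_snd (𝟙 A ^ N).left η[A].left _).trans ?_
  rcases g with _ | m
  · rw [Nat.mul_zero, pow_zero]
    haveI : Subsingleton A.left := by
      refine ⟨fun a b => ?_⟩
      have hmin : ∀ a : A.left, a = genericPoint A.left := fun a => by
        by_contra hne
        have h2 := VarDim.sdim_lt_of_specializes A.hom (x := genericPoint A.left) (y := a)
          ((genericPoint_spec A.left).specializes trivial) (Ne.symm hne)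
        have h3 := VarDim.dim_eq_sdim_genericPoint A.hom
        rw [hg] at h3
        have : VarDim.sdim A.hom (genericPoint A.left) = 0 := by exact_mod_cast h3.symm
        omega
      rw [hmin a, hmin b]
    haveI : IsClosedImmersion (η[A].left) :=
      isClosedImmersion_of_comp_eq_id (Y := Spec (.of k)) A.hom η[A].left (Over.w η[A])
    haveI : Surjective (η[A].left) := ⟨fun a => ⟨IsLocalRing.closedPoint k, Subsingleton.elim _ _⟩⟩
    haveI : IsIso (η[A].left) := isIso_of_isClosedImmersion_of_surjective (η[A].left)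
    haveI : IsIso ((Over.forget _).map η[A]) := ‹IsIso η[A].left›
    haveI : IsIso η[A] := isIso_of_reflects_iso η[A] (Over.forget _)
    haveI : IsIso (𝟙 A ^ N).left := by
      have h1 : (𝟙 A ^ N) = 𝟙 A := by
        rw [← cancel_epi η[A]]
        rw [Category.comp_id]
        haveI := TateTors22.isMonHom_pow (A := A) N
        exact IsMonHom.one_hom _
      rw [h1]
      exact inferInstanceAs (IsIso (𝟙 A.left))
    rw [Scheme.Hom.finrank_eq_one_of_isIso]
    rfl
  · have hpos : 0 < N := Nat.pos_of_ne_zero fun h => hN (by rw [h, Nat.cast_zero])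
    rw [finrank_eq_genericPoint (𝟙 A ^ N), finrank_genericPoint (𝟙 A ^ N), fieldDeg_pow A hg hpos]

/-- The number of torsion points over an algebraically closed field. -/
theorem card_torsPts [IsAlgClosed k] {g : ℕ} (hg : topologicalKrullDim A.left = g) {N : ℕ} (hN : (N : k) ≠ 0) :
    Nat.card (AbDual.torsPts A N (Over.mk (𝟙 (Spec (CommRingCat.of k))))) = N ^ (2 * g) := by
  have key : ∀ (t : Spec (CommRingCat.of k) ⟶ Spec (CommRingCat.of k)),
      t = Spec.map (CommRingCat.ofHom (algebraMap k k)) →
      Nat.card (AbDual.torsPts A N (Over.mk t)) = N ^ (2 * g) := by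
    rintro t rfl
    exact card_tors A k hg hN
  exact key _ (Spec.map_id _).symm

end Groth.Agent.AVDegree22
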