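import Groth.Agent.Lib.AVDegree22.MulRank
import Groth.Agent.Lib.AbRigid.FlatFibre
import Groth.Agent.Lib.TateTors22.BaseChange

/-!
# Multiplication by an integer on an abelian scheme
-/

universe u

open CategoryTheory Limits AlgebraicGeometry MonoidalCategory CartesianMonoidalCategory MonObj
open scoped GrpObj

set_option linter.style.haveILetI false
set_option backward.isDefEq.respectTransparency false

namespace Groth.Agent.AVDegree22

open scoped CategoryTheory.Obj

variable {S : Scheme.{u}} (X : Over S) [GrpObj X] [IsCommMonObj X] [IsProper X.hom] [Flat X.hom]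
  [LocallyOfFinitePresentation X.hom] [GeometricallyReduced X.hom] [GeometricallyConnected X.hom]

theorem isMonHom_pow_rel (n : ℕ) : IsMonHom (𝟙 X ^ n) := by
  refine ⟨?_, ?_⟩
  · rw [MonObj.comp_pow, Category.comp_id, one_eq_one, one_pow]
  · rw [MonObj.comp_pow, Category.comp_id, ← lift_fst_comp_snd_comp, ← Hom.mul_def, MonObj.comp_pow,
      MonObj.comp_pow, Category.comp_id, Category.comp_id, ← mul_pow]
    congr 1
    rw [Hom.mul_def, lift_fst_snd, Category.id_comp]

/-- The restriction of multiplication to a fibre. -/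
theorem fibreMap_pow (n : ℕ) (s : S) :
    AbRigid.fibreMap (𝟙 X ^ n) s = 𝟙 ((Over.pullback (S.fromSpecResidueField s)).obj X) ^ n := by
  rw [AbRigid.fibreMap, TateTors22.map_mul_pow, CategoryTheory.Functor.map_id]

/-- Multiplication by a positive integer on an abelian scheme. -/
theorem mul_rel {g : S → ℕ} (hg : ∀ s : S, topologicalKrullDim ↥(X.hom.fiber s) = g s) {n : ℕ} (hn : 0 < n) :
    IsFinite (𝟙 X ^ n).left ∧ Flat (𝟙 X ^ n).left ∧ Surjective (𝟙 X ^ n).left ∧
      ∀ s : S, Scheme.Hom.finrank (𝟙 X ^ n).left (η[X].left s) = n ^ (2 * g s) := by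
  haveI := isMonHom_pow_rel X n
  let B : ∀ s : S, Over (Spec (CommRingCat.of (S.residueField s))) := fun s =>
    (Over.pullback (S.fromSpecResidueField s)).obj X
  haveI hGI : ∀ s, GeometricallyIntegral (B s).hom := fun s => AbRigid.geometricallyIntegral_of_connected (B s)
  haveI hP : ∀ s, IsProper (B s).hom := fun s => inferInstanceAs (IsProper (pullback.snd X.hom _))
  have hfib : ∀ s : S, IsFinite (AbRigid.fibreMap (𝟙 X ^ n) s).left ∧
      Surjective (AbRigid.fibreMap (𝟙 X ^ n) s).left ∧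
      ∀ y, Scheme.Hom.finrank (AbRigid.fibreMap (𝟙 X ^ n) s).left y = n ^ (2 * g s) := fun s => by
    rw [fibreMap_pow]
    obtain ⟨h1, -, h3⟩ := isFinite_flat_surjective_pow (B s) hn
    exact ⟨h1, h3, finrank_pow (B s) (hg s) hn⟩
  haveI hsurj : Surjective (𝟙 X ^ n).left := (AbRigid.surjective_iff_fibres _).2 fun s => (hfib s).2.1
  haveI : IsProper ((𝟙 X ^ n).left ≫ X.hom) := by rw [Over.w]; infer_instance
  haveI : IsProper (𝟙 X ^ n).left := .of_comp _ X.hom
  haveI hfin : IsFinite (𝟙 X ^ n).left := by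
    rw [IsFinite.iff_isProper_and_locallyQuasiFinite]
    refine ⟨inferInstance, LocallyQuasiFinite.of_finite_preimage_singleton _ fun y => ?_⟩
    obtain ⟨s, hs⟩ : ∃ s, X.hom y = s := ⟨_, rfl⟩
    obtain ⟨y', rfl⟩ : y ∈ Set.range (X.hom.fiberι s) := by rw [Scheme.Hom.range_fiberι]; exact hs
    haveI := (hfib s).1
    refine (((AbRigid.fibreMap (𝟙 X ^ n) s).left.finite_preimage_singleton y').image (X.hom.fiberι s)).subset
      fun z hz => ?_
    obtain ⟨z', rfl⟩ : z ∈ Set.range (X.hom.fiberι s) := by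
      rw [Scheme.Hom.range_fiberι]
      show X.hom z = s
      rw [← hs, ← (hz : (𝟙 X ^ n).left z = X.hom.fiberι s y'), ← Scheme.Hom.comp_apply, Over.w]
    refine ⟨z', (X.hom.fiberι s).isEmbedding.injective ?_, rfl⟩
    have hw := (AbRigid.isPullback_fibreMap (𝟙 X ^ n) s).w
    calc X.hom.fiberι s ((AbRigid.fibreMap (𝟙 X ^ n) s).left z')
        = ((AbRigid.fibreMap (𝟙 X ^ n) s).left ≫ X.hom.fiberι s) z' := (Scheme.Hom.comp_apply _ _ _).symm
      _ = (X.hom.fiberι s ≫ (𝟙 X ^ n).left) z' := congrArg (fun g => g z') hw.symm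
      _ = X.hom.fiberι s y' := hz
  haveI hfl : Flat (𝟙 X ^ n).left := AbRigid.flat_of_surjective_rel (𝟙 X ^ n)
  refine ⟨hfin, hfl, hsurj, fun s => ?_⟩
  obtain ⟨y', hy'⟩ : η[X].left s ∈ Set.range (X.hom.fiberι s) := by
    rw [Scheme.Hom.range_fiberι]
    exact congrArg (fun g => g s) (Over.w η[X])
  rw [← hy', ← (hfib s).2.2 y']
  exact (Scheme.Hom.finrank_of_isPullback _ _ _ _ (AbRigid.isPullback_fibreMap (𝟙 X ^ n) s) y').symm

end Groth.Agent.AVDegree22
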