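import Mathlib.AlgebraicGeometry.FunctionField
import Mathlib.AlgebraicGeometry.Stalk
import Mathlib.AlgebraicGeometry.Morphisms.Proper
import Mathlib.AlgebraicGeometry.ValuativeCriterion
import Mathlib.CategoryTheory.Comma.Over.Basic
import Mathlib.RingTheory.Valuation.ValuationSubring

/-!
# Regular functions as subalgebras of the function field
-/

universe u

open CategoryTheory AlgebraicGeometry TopologicalSpace

set_option backward.isDefEq.respectTransparency false
set_option linter.style.haveILetI false

namespace Groth.Agent.AVDegree22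

variable {k : Type u} [Field k] {X : Over (Spec (CommRingCat.of k))} [IsIntegral X.left]

variable (X) in
/-- Constants in the function field. -/
noncomputable def kHom : k →+* X.left.functionField :=
  ((Scheme.ΓSpecIso (CommRingCat.of k)).inv ≫ X.hom.appTop ≫
    X.left.presheaf.germ ⊤ (genericPoint X.left) trivial).hom

noncomputable instance fnAlgebra : Algebra k X.left.functionField := (kHom X).toAlgebra

/-- The functions regular at a point. -/
noncomputable def regAt (z : X.left) : Subalgebra k X.left.functionField where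
  carrier := Set.range (X.left.presheaf.stalkSpecializes ((genericPoint_spec X.left).specializes trivial :
    genericPoint X.left ⤳ z))
  mul_mem' := by rintro _ _ ⟨a, rfl⟩ ⟨b, rfl⟩; exact ⟨a * b, map_mul _ _ _⟩
  add_mem' := by rintro _ _ ⟨a, rfl⟩ ⟨b, rfl⟩; exact ⟨a + b, map_add _ _ _⟩
  algebraMap_mem' c := ⟨X.left.presheaf.germ ⊤ z trivial
    (X.hom.appTop ((Scheme.ΓSpecIso (CommRingCat.of k)).inv c)),
    TopCat.Presheaf.germ_stalkSpecializes_apply _ (U := ⊤) trivial _ _⟩

/-- The functions regular on an open. -/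
noncomputable def reg (U : X.left.Opens) : Subalgebra k X.left.functionField := ⨅ z ∈ U, regAt z

theorem mem_reg {U : X.left.Opens} {f : X.left.functionField} : f ∈ reg U ↔ ∀ z ∈ U, f ∈ regAt z := by
  simp [reg, Algebra.mem_iInf]

theorem mem_regAt {z : X.left} {f : X.left.functionField} :
    f ∈ regAt z ↔ ∃ r, X.left.presheaf.stalkSpecializes ((genericPoint_spec X.left).specializes trivial :
      genericPoint X.left ⤳ z) r = f := Iff.rfl

/-- The value of a section. -/
noncomputable def val (U : X.left.Opens) (hU : genericPoint X.left ∈ U) : Γ(X.left, U) →+* X.left.functionField :=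
  (X.left.presheaf.germ U (genericPoint X.left) hU).hom

theorem val_injective (U : X.left.Opens) (hU : genericPoint X.left ∈ U) : Function.Injective (val U hU) :=
  germ_injective_of_isIntegral X.left (genericPoint X.left) hU

theorem val_res {U V : X.left.Opens} (h : V ≤ U) (hV : genericPoint X.left ∈ V) (a : Γ(X.left, U)) :
    val V hV (X.left.presheaf.map (homOfLE h).op a) = val U (h hV) a :=
  TopCat.Presheaf.germ_res_apply X.left.presheaf (homOfLE h) _ hV a

theorem val_eq_specializes {U : X.left.Opens} (hU : genericPoint X.left ∈ U) {z : X.left} (hz : z ∈ U)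
    (a : Γ(X.left, U)) : X.left.presheaf.stalkSpecializes ((genericPoint_spec X.left).specializes trivial :
      genericPoint X.left ⤳ z) (X.left.presheaf.germ U z hz a) = val U hU a :=
  TopCat.Presheaf.germ_stalkSpecializes_apply _ hz _ _

theorem val_mem_reg {U : X.left.Opens} (hU : genericPoint X.left ∈ U) (a : Γ(X.left, U)) :
    val U hU a ∈ reg U :=
  mem_reg.2 fun z hz => ⟨_, val_eq_specializes hU hz a⟩

/-- A function regular on an open comes from a section. -/
theorem exists_val_eq {U : X.left.Opens} (hU : genericPoint X.left ∈ U) {f : X.left.functionField}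
    (hf : f ∈ reg U) : ∃ a : Γ(X.left, U), val U hU a = f := by
  have hloc : ∀ z : U, ∃ (V : X.left.Opens) (b : Γ(X.left, V)) (hg : genericPoint X.left ∈ V),
      z.1 ∈ V ∧ V ≤ U ∧ val V hg b = f := fun z => by
    obtain ⟨r, hr⟩ := mem_reg.1 hf z.1 z.2
    obtain ⟨W, hzW, b, rfl⟩ := X.left.presheaf.exists_germ_eq r
    have hsp : genericPoint X.left ⤳ z.1 := (genericPoint_spec X.left).specializes trivial
    refine ⟨W ⊓ U, X.left.presheaf.map (homOfLE inf_le_left).op b, ⟨hsp.mem_open W.2 hzW, hU⟩, ⟨hzW, z.2⟩,
      inf_le_right, ?_⟩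
    rw [val_res inf_le_left]
    exact (val_eq_specializes _ hzW b).symm.trans hr
  choose V b hgV hzV hVU hb using hloc
  have hcomp : TopCat.Presheaf.IsCompatible X.left.presheaf V b := fun i j => by
    apply val_injective (V i ⊓ V j) ⟨hgV i, hgV j⟩
    exact ((val_res inf_le_left ⟨hgV i, hgV j⟩ _).trans (hb i)).trans
      ((val_res inf_le_right ⟨hgV i, hgV j⟩ _).trans (hb j)).symm
  obtain ⟨a, ha, -⟩ := X.left.sheaf.existsUnique_gluing' V U (fun i => homOfLE (hVU i))
    (fun z hz => Opens.mem_iSup.2 ⟨⟨z, hz⟩, hzV ⟨z, hz⟩⟩) b hcomp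
  refine ⟨a, ?_⟩
  have h1 := congrArg (val (V ⟨_, hU⟩) (hgV _)) (ha ⟨_, hU⟩)
  rw [hb] at h1
  exact (val_res (hVU _) (hgV _) a).symm.trans h1

theorem reg_anti {U V : X.left.Opens} (h : V ≤ U) : reg U ≤ reg V :=
  fun _ hf => mem_reg.2 fun z hz => mem_reg.1 hf z (h hz)

/-- An inverse regular at a point means a unit there. -/
theorem isUnit_germ_iff {U : X.left.Opens} (hU : genericPoint X.left ∈ U) {z : X.left} (hz : z ∈ U)
    (a : Γ(X.left, U)) (ha : val U hU a ≠ 0) :
    z ∈ X.left.basicOpen a ↔ (val U hU a)⁻¹ ∈ regAt z := by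
  have hinj : Function.Injective (X.left.presheaf.stalkSpecializes ((genericPoint_spec X.left).specializes trivial :
      genericPoint X.left ⤳ z)) := by
    rw [injective_iff_map_eq_zero]
    intro r hr
    obtain ⟨W, hzW, b, rfl⟩ := X.left.presheaf.exists_germ_eq r
    have hW : genericPoint X.left ∈ W := ((genericPoint_spec X.left).specializes trivial).mem_open W.2 hzW
    rw [val_eq_specializes hW hzW, map_eq_zero_iff _ (val_injective W hW)] at hr
    rw [hr, map_zero]
  rw [Scheme.mem_basicOpen _ _ _ hz, isUnit_iff_exists_inv]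
  constructor
  · rintro ⟨r, hr⟩
    refine ⟨r, ?_⟩
    have := congrArg (X.left.presheaf.stalkSpecializes ((genericPoint_spec X.left).specializes trivial :
      genericPoint X.left ⤳ z)) hr
    rw [map_mul, map_one, val_eq_specializes hU hz] at this
    exact eq_inv_of_mul_eq_one_right this
  · rintro ⟨r, hr⟩
    refine ⟨r, hinj ?_⟩
    rw [map_mul, map_one, val_eq_specializes hU hz, hr, mul_inv_cancel₀ ha]

/-- A valuation ring of the function field over `k` is centred at some point of a proper variety. -/
theorem exists_centre [IsProper X.hom] (V : ValuationSubring X.left.functionField)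
    (hV : ∀ c : k, algebraMap k X.left.functionField c ∈ V) :
    ∃ z : X.left, (∀ f ∈ regAt z, f ∈ V) ∧ ∀ f ∈ regAt z, f ≠ 0 → f⁻¹ ∈ V → f⁻¹ ∈ regAt z := by
  let K := X.left.functionField
  let j : k →+* V := (algebraMap k K).codRestrict V.toSubring hV
  let incl : CommRingCat.of V ⟶ K := CommRingCat.ofHom V.subtype
  let S : ValuativeCommSq X.hom :=
    { R := V
      K := K
      i₁ := X.left.fromSpecStalk (genericPoint X.left)
      i₂ := Spec.map (CommRingCat.ofHom j)
      commSq := ⟨by
        rw [show CommRingCat.ofHom (algebraMap V K) = incl from rfl, ← Spec.map_comp]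
        apply ext_of_isAffine
        rw [Scheme.Hom.comp_appTop, Scheme.fromSpecStalk_appTop,
          show CommRingCat.ofHom j ≫ incl = CommRingCat.ofHom (kHom X) from rfl,
          ← cancel_epi (Scheme.ΓSpecIso (CommRingCat.of k)).inv, ← Scheme.ΓSpecIso_inv_naturality]
        rfl⟩ }
  obtain ⟨⟨⟨l, hl₁, hl₂⟩⟩⟩ := (show ValuativeCriterion.Existence X.hom by
    have := (UniversallyClosed.eq_valuativeCriterion ▸ (inferInstance : UniversallyClosed X.hom) :
      (ValuativeCriterion.Existence ⊓ @QuasiCompact) X.hom)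
    exact this.1) S
  let φ := Scheme.stalkClosedPointTo (R := CommRingCat.of V) l
  let z := l (IsLocalRing.closedPoint V)
  have hspec : genericPoint X.left ⤳ z := (genericPoint_spec X.left).specializes trivial
  have hφ : φ ≫ incl = X.left.presheaf.stalkSpecializes hspec := by
    apply Spec.map_injective
    rw [← cancel_mono (X.left.fromSpecStalk z), Spec.map_comp, Category.assoc,
      Scheme.Spec_stalkClosedPointTo_fromSpecStalk, Scheme.SpecMap_stalkSpecializes_fromSpecStalk]
    exact hl₁
  have hval : ∀ r, ((φ r : V) : K) = X.left.presheaf.stalkSpecializes hspec r := fun r =>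
    congrArg (fun g : X.left.presheaf.stalk z ⟶ K => g r) hφ
  refine ⟨z, ?_, ?_⟩
  · rintro f ⟨r, rfl⟩
    rw [← hval r]
    exact (φ r).2
  · rintro f ⟨r, rfl⟩ hf0 hinv
    have hu : IsUnit (φ r) := by
      refine isUnit_iff_exists_inv.2 ⟨⟨_, hinv⟩, Subtype.ext ?_⟩
      show ((φ r : V) : K) * _ = _
      rw [hval, mul_inv_cancel₀ hf0]
      rfl
    obtain ⟨r', hr'⟩ := isUnit_iff_exists_inv.1 (isUnit_of_map_unit φ.hom r hu)
    refine ⟨r', eq_inv_of_mul_eq_one_right ?_⟩
    rw [← map_mul, hr', map_one]

end Groth.Agent.AVDegree22
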