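import Groth.Agent.Lib.AVDegree22.Tuple
import Groth.Prelude.Def_Coh

/-!
# Global sections of an invertible module as a space of rational functions
-/

universe u

open CategoryTheory AlgebraicGeometry TopologicalSpace

set_option backward.isDefEq.respectTransparency false
set_option linter.style.haveILetI false

namespace Groth.Agent.AVDegree22

open Groth.Agent.Amp
open Groth.Agent.M2 (tsec pullSec IsGenerator res)

variable {k : Type u} [Field k] {X : Over (Spec (CommRingCat.of k))} [IsIntegral X.left]
  {M : X.left.Modules}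

/-- A section of an invertible module is determined by its germ at the generic point. -/
theorem eq_of_gm_generic (hM : PicF.IsInvertible M) {U : X.left.Opens} (hU : genericPoint X.left ∈ U)
    {s t : Γ(M, U)} (h : gm M (genericPoint X.left) hU s = gm M (genericPoint X.left) hU t) : s = t := by
  refine eq_of_gm fun x hx => ?_
  obtain ⟨W, e, hxW, hWU, -, he⟩ := exists_isGenerator hM (x := x) hx
  have hηW : genericPoint X.left ∈ W := (genericPoint_specializes x).mem_open W.isOpen hxW
  obtain ⟨c, hc⟩ := exists_coeff he (res M hWU s)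
  obtain ⟨d, hd⟩ := exists_coeff he (res M hWU t)
  rw [← gm_res hWU hxW, ← gm_res hWU hxW t, ← hc, ← hd]
  rw [← gm_res hWU hηW, ← gm_res hWU hηW t, ← hc, ← hd, gm_smul, gm_smul] at h
  rw [val_injective W hηW ((gen_of_isGenerator he hηW).1 h)]

omit [IsIntegral X.left] in
theorem gval_ext {s t : Coh.structureModule X.left ⟶ M} (h : gval s = gval t) : s = t := by
  rw [← secHom_gval s, ← secHom_gval t, h]

variable {n : ℕ} {S : SecSys X n} {a : Fin (n + 2) → (Coh.structureModule X.left ⟶ M)}

/-- The rational function of a section. -/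
noncomputable def ratFun (h : S.IsOf M a) (t : Γ(M, (⊤ : X.left.Opens))) : X.left.functionField :=
  (exists_isRatio h.inv (M1.secHom t) (h.generic 0)).choose

theorem ratFun_spec (h : S.IsOf M a) (t : Γ(M, (⊤ : X.left.Opens))) :
    (show X.left.presheaf.stalk (genericPoint X.left) from ratFun h t) •
      gm M (genericPoint X.left) (U := ⊤) trivial (gval (a 0)) = gm M (genericPoint X.left) (U := ⊤) trivial t := by
  exact Eq.trans (exists_isRatio h.inv (M1.secHom t) (h.generic 0)).choose_spec.1
    (congrArg (gm M (genericPoint X.left) (U := (⊤ : X.left.Opens)) trivial) (gval_secHom t))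

theorem ratFun_eq (h : S.IsOf M a) {t : Γ(M, (⊤ : X.left.Opens))} {r : X.left.functionField}
    (hr : (show X.left.presheaf.stalk (genericPoint X.left) from r) •
      gm M (genericPoint X.left) (U := ⊤) trivial (gval (a 0)) = gm M (genericPoint X.left) (U := ⊤) trivial t) :
    ratFun h t = r :=
  ((mem_genLocus_iff h.inv (a 0)).1 (h.generic 0)).1 ((ratFun_spec h t).trans hr.symm)

theorem ratFun_add (h : S.IsOf M a) (t t' : Γ(M, (⊤ : X.left.Opens))) :
    ratFun h (t + t') = ratFun h t + ratFun h t' := by
  refine ratFun_eq h ?_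
  rw [show gm M (genericPoint X.left) (U := (⊤ : X.left.Opens)) trivial (t + t') =
    gm M (genericPoint X.left) (U := ⊤) trivial t + gm M (genericPoint X.left) (U := ⊤) trivial t' from map_add _ _ _,
    ← ratFun_spec h t, ← ratFun_spec h t']
  exact add_smul _ _ _

theorem ratFun_smul (h : S.IsOf M a) (g : Γ(X.left, ⊤)) (t : Γ(M, (⊤ : X.left.Opens))) :
    ratFun h (g • t) = val ⊤ trivial g * ratFun h t := by
  refine ratFun_eq h ?_
  rw [gm_smul, ← ratFun_spec h t]
  exact mul_smul _ _ _

theorem ratFun_injective (h : S.IsOf M a) : Function.Injective (ratFun h) := fun t t' e =>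
  eq_of_gm_generic h.inv (U := ⊤) trivial (by rw [← ratFun_spec h t, ← ratFun_spec h t', e])

theorem ratFun_mem [IsProper X.hom] (h : S.IsOf M a) (hdim : topologicalKrullDim X.left = (n + 1 : ℕ))
    (t : Γ(M, (⊤ : X.left.Opens))) : ratFun h t ∈ (S.toCharts hdim).V 1 := by
  refine (Charts.mem_V _).2 fun i => ?_
  have h1 : IsRatio (a 0) (M1.secHom t) (ratFun h t) := by
    unfold IsRatio
    rw [gval_secHom]
    exact ratFun_spec h t
  have h2 := (ratio_div h.inv (h.generic 0) (h.generic i) (h.ratio i) h1).mem_reg h.inv (h.generic i)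
  rw [h.U_eq] at h2
  rw [pow_one]
  exact h2

theorem ratFun_surjective [IsProper X.hom] (h : S.IsOf M a) (hdim : topologicalKrullDim X.left = (n + 1 : ℕ))
    {r : X.left.functionField} (hr : r ∈ (S.toCharts hdim).V 1) : ∃ t, ratFun h t = r := by
  have hr' : ∀ i, r / S.x i ∈ reg (S.U i) := fun i => by
    have := (Charts.mem_V _).1 hr i
    rw [pow_one] at this
    exact this
  choose c hc using fun i => exists_val_eq (S.generic i) (hr' i)
  let sf : ∀ i, Γ(M, S.U i) := fun i => c i • res M (le_top : S.U i ≤ ⊤) (gval (a i))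
  have hgm : ∀ i, gm M (genericPoint X.left) (S.generic i) (sf i) =
      (show X.left.presheaf.stalk (genericPoint X.left) from r) •
        gm M (genericPoint X.left) (U := ⊤) trivial (gval (a 0)) := by
    intro i
    have hi := h.ratio i
    unfold IsRatio at hi
    rw [gm_smul, gm_res, ← hi, ← mul_smul]
    congr 1
    show val _ _ (c i) * S.x i = r
    rw [hc, div_mul_cancel₀ r (S.x_ne i)]
  obtain ⟨t, ht, -⟩ := TopCat.Sheaf.existsUnique_gluing' ⟨M.presheaf, M.isSheaf⟩ S.U (⊤ : X.left.Opens)
    (fun i => homOfLE le_top) (fun z _ => Opens.mem_iSup.2 (S.cover z)) sf (fun i j => by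
      refine eq_of_gm_generic h.inv (U := S.U i ⊓ S.U j) ⟨S.generic i, S.generic j⟩ ?_
      exact ((gm_res inf_le_left ⟨S.generic i, S.generic j⟩ (sf i)).trans (hgm i)).trans
        ((gm_res inf_le_right ⟨S.generic i, S.generic j⟩ (sf j)).trans (hgm j)).symm)
  refine ⟨t, ratFun_eq h ?_⟩
  rw [← hgm 0, ← gm_res (le_top : S.U 0 ≤ ⊤) (S.generic 0) t]
  exact congrArg _ (ht 0).symm

/-- The dimension of the space of sections. -/
theorem finrank_HH_zero [IsProper X.hom] (h : S.IsOf M a) (hdim : topologicalKrullDim X.left = (n + 1 : ℕ)) :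
    letI : X.left.Over (Spec (CommRingCat.of k)) := ⟨X.hom⟩
    Module.finrank k (Coh.HH X.left M 0) = Module.finrank k ((S.toCharts hdim).V 1) := by
  letI : X.left.Over (Spec (CommRingCat.of k)) := ⟨X.hom⟩
  let e : Coh.HH X.left M 0 ≃+ Γ(M, (⊤ : X.left.Opens)) :=
    Sheaf.H.equiv₀ (Coh.toAb M) (CategoryTheory.Limits.isTerminalTop (α := X.left.Opens))
  have he : ∀ (c : k) x, ratFun h (e (c • x)) = c • ratFun h (e x) := by
    intro c x
    have h1 : e (c • x) = (show Γ(X.left, ⊤) from Coh.resTop X.left (Opposite.op ⊤) (Coh.toGlobal X.hom c)) • e x :=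
      ((Sheaf.H.equiv₀_naturality (CategoryTheory.Limits.isTerminalTop (α := X.left.Opens))
        (Coh.smulAb M (Coh.toGlobal X.hom c)) x).symm).trans (Coh.smulAb_app _ _ _ _)
    rw [h1, ratFun_smul, Algebra.smul_def]
    congr 1
    show _ = kHom X c
    simp [Coh.resTop, Coh.toGlobal, kHom, val]
    rfl
  let f : Coh.HH X.left M 0 →ₗ[k] (S.toCharts hdim).V 1 :=
    { toFun := fun x => ⟨ratFun h (e x), ratFun_mem h hdim _⟩
      map_add' := fun x y => Subtype.ext (by simp [ratFun_add])
      map_smul' := fun c x => Subtype.ext (he c x) }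
  refine (LinearEquiv.ofBijective f ⟨fun x y hxy => e.injective (ratFun_injective h (congrArg Subtype.val hxy)),
    fun r => ?_⟩).finrank_eq
  obtain ⟨t, ht⟩ := ratFun_surjective h hdim r.2
  exact ⟨e.symm t, Subtype.ext (by show ratFun h (e (e.symm t)) = r; rw [e.apply_symm_apply, ht])⟩

end Groth.Agent.AVDegree22
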