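import Groth.Agent.Lib.AVDegree22.Reg
import Groth.Agent.Lib.AVDegree22.Data
import Groth.Agent.Lib.DimF18.Basic
import Groth.Agent.Lib.VarDim.Alg

/-!
# Systems of affine charts with ratios of homogeneous coordinates
-/

universe u

open CategoryTheory AlgebraicGeometry TopologicalSpace

set_option backward.isDefEq.respectTransparency false
set_option linter.style.haveILetI false

namespace Groth.Agent.AVDegree22

variable {k : Type u} [Field k]

/-- Affine charts of an integral scheme with homogeneous coordinates read in the function field. -/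
structure SecSys (X : Over (Spec (CommRingCat.of k))) [IsIntegral X.left] (n : ℕ) where
  U : Fin (n + 2) → X.left.Opens
  affine : ∀ i, IsAffineOpen (U i)
  generic : ∀ i, genericPoint X.left ∈ U i
  cover : ∀ z, ∃ i, z ∈ U i
  x : Fin (n + 2) → X.left.functionField
  x_zero : x 0 = 1
  x_ne : ∀ i, x i ≠ 0
  mem : ∀ i l, x l / x i ∈ reg (U i)
  locus : ∀ i l, ∀ z ∈ U i, x i / x l ∈ regAt z → z ∈ U l

variable {X : Over (Spec (CommRingCat.of k))} [IsIntegral X.left] {n : ℕ}

namespace SecSys

variable (S : SecSys X n)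

theorem inf_eq_basicOpen (i l : Fin (n + 2)) (a : Γ(X.left, S.U i))
    (ha : val (S.U i) (S.generic i) a = S.x l / S.x i) : S.U i ⊓ S.U l = X.left.basicOpen a := by
  have hne : val (S.U i) (S.generic i) a ≠ 0 := ha ▸ div_ne_zero (S.x_ne l) (S.x_ne i)
  ext z
  constructor
  · rintro ⟨hi, hl⟩
    refine (isUnit_germ_iff (S.generic i) hi a hne).2 ?_
    rw [ha, inv_div]
    exact mem_reg.1 (S.mem l i) z hl
  · intro hz
    have hi : z ∈ S.U i := X.left.basicOpen_le a hz
    refine ⟨hi, S.locus i l z hi ?_⟩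
    have := (isUnit_germ_iff (S.generic i) hi a hne).1 hz
    rwa [ha, inv_div] at this

theorem overlap (i : Fin (n + 2)) {f : X.left.functionField} (hf : f ∈ reg (S.U 0)) :
    ∃ a : ℕ, f / S.x i ^ a ∈ reg (S.U i) := by
  obtain ⟨a, ha⟩ := exists_val_eq (S.generic i) (S.mem i 0)
  have he := S.inf_eq_basicOpen i 0 a ha
  have hD : genericPoint X.left ∈ X.left.basicOpen a := he ▸ ⟨S.generic i, S.generic 0⟩
  obtain ⟨b, hb⟩ := exists_val_eq hD (reg_anti (he.symm.le.trans inf_le_right) hf)
  haveI := (S.affine i).isLocalization_basicOpen a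
  obtain ⟨⟨c, ⟨_, N, rfl⟩⟩, hc⟩ := IsLocalization.surj (Submonoid.powers a) b
  refine ⟨N, ?_⟩
  have h1 := congrArg (val (X.left.basicOpen a) hD) hc
  rw [map_mul] at h1
  have e : ∀ t : Γ(X.left, S.U i), val (X.left.basicOpen a) hD (algebraMap Γ(X.left, S.U i) _ t) =
      val (S.U i) (S.generic i) t := fun t => val_res (X.left.basicOpen_le a) hD t
  rw [e, e, hb, map_pow, ha, S.x_zero, div_pow, one_pow, mul_one_div] at h1
  rw [h1]
  exact val_mem_reg _ _

theorem mem_of_valuation [IsProper X.hom] (i : Fin (n + 2)) (V : ValuationSubring X.left.functionField)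
    (hk : ∀ c : k, algebraMap k X.left.functionField c ∈ V) (hx : ∀ l, S.x l / S.x i ∈ V)
    {f : X.left.functionField} (hf : f ∈ reg (S.U i)) : f ∈ V := by
  obtain ⟨z, hzV, hunit⟩ := exists_centre V hk
  obtain ⟨j, hj⟩ := S.cover z
  have h1 := hunit _ (mem_reg.1 (S.mem j i) z hj) (div_ne_zero (S.x_ne i) (S.x_ne j))
    (by rw [inv_div]; exact hx j)
  rw [inv_div] at h1
  exact hzV f (mem_reg.1 hf z (S.locus j i z hj h1))

theorem isIntegral_ratios [IsProper X.hom] (i : Fin (n + 2)) {f : X.left.functionField}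
    (hf : f ∈ reg (S.U i)) : IsIntegral (ratios k X.left.functionField n S.x i) f := by
  let B := ratios k X.left.functionField n S.x i
  have h1 : f ∈ (⨅ V : {V : ValuationSubring X.left.functionField //
      (B : Set X.left.functionField) ⊆ V.toSubring}, V.1.toSubring) := by
    rw [Subring.mem_iInf]
    exact fun V => S.mem_of_valuation i V.1 (fun c => V.2 (B.algebraMap_mem c))
      (fun l => V.2 (Algebra.subset_adjoin ⟨l, rfl⟩)) hf
  rw [iInf_valuationSubring_superset] at h1
  have hint : IsIntegral (Subring.closure (B : Set X.left.functionField)) f := h1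
  have hle : Subring.closure (B : Set X.left.functionField) ≤ B.toSubring := Subring.closure_le.2 le_rfl
  obtain ⟨p, hp, hev⟩ := hint
  refine ⟨p.map (Subring.inclusion hle), hp.map _, ?_⟩
  rw [Polynomial.eval₂_map]
  exact hev

theorem finite [IsProper X.hom] (i : Fin (n + 2)) : ∃ T : Finset X.left.functionField, ∀ f ∈ reg (S.U i),
    ∃ c : X.left.functionField → X.left.functionField,
      (∀ z, c z ∈ ratios k X.left.functionField n S.x i) ∧ f = ∑ z ∈ T, c z * z := by
  classical
  let B := ratios k X.left.functionField n S.x i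
  let ψ := VarDim.baseToSections X.hom (S.U i)
  letI : Algebra k Γ(X.left, S.U i) := ψ.toAlgebra
  haveI : Algebra.FiniteType k Γ(X.left, S.U i) := VarDim.finiteType_baseToSections X.hom (S.affine i)
  obtain ⟨s, hs⟩ := (inferInstance : Algebra.FiniteType k Γ(X.left, S.U i)).out
  let v : Γ(X.left, S.U i) →ₐ[k] X.left.functionField :=
    { toRingHom := val (S.U i) (S.generic i)
      commutes' := fun c => TopCat.Presheaf.germ_res_apply X.left.presheaf (homOfLE le_top) _ _ _ }
  let t : Finset X.left.functionField := s.image v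
  have hint : ∀ z ∈ (t : Set X.left.functionField), IsIntegral B z := fun z hz => by
    obtain ⟨a, -, rfl⟩ := Finset.mem_image.1 hz
    exact S.isIntegral_ratios i (val_mem_reg _ a)
  obtain ⟨T, hT⟩ := fg_adjoin_of_finite t.finite_toSet hint
  refine ⟨T, fun f hf => ?_⟩
  obtain ⟨a, rfl⟩ := exists_val_eq (S.generic i) hf
  have ha : v a ∈ Subalgebra.toSubmodule (Algebra.adjoin B (t : Set X.left.functionField)) := by
    have : v a ∈ (Algebra.adjoin k (s : Set Γ(X.left, S.U i))).map v := ⟨a, by rw [hs]; trivial, rfl⟩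
    rw [AlgHom.map_adjoin] at this
    rw [Subalgebra.mem_toSubmodule]
    have hle : Algebra.adjoin k (v '' s) ≤ (Algebra.adjoin B (t : Set X.left.functionField)).restrictScalars k :=
      Algebra.adjoin_le fun z hz => Algebra.subset_adjoin (by simpa [t] using hz)
    exact hle this
  rw [← hT, Submodule.mem_span_finset] at ha
  obtain ⟨c, -, hc⟩ := ha
  exact ⟨fun z => c z, fun z => (c z).2, hc.symm.trans (Finset.sum_congr rfl fun z _ => rfl)⟩

theorem indep [IsProper X.hom] (hdim : topologicalKrullDim X.left = (n + 1 : ℕ)) :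
    AlgebraicIndependent k fun l : Fin (n + 1) => S.x l.succ := by
  let K := X.left.functionField
  let x := fun l : Fin (n + 1) => S.x l.succ
  let R := reg (S.U 0)
  let B := ratios k K n S.x 0
  have hB : B = (MvPolynomial.aeval (R := k) x).range := by
    rw [← Algebra.adjoin_range_eq_range_aeval]
    refine le_antisymm (Algebra.adjoin_le ?_) (Algebra.adjoin_le ?_)
    · rintro _ ⟨l, rfl⟩
      cases l using Fin.cases with
      | zero =>
        simp only [S.x_zero, div_one]
        exact one_mem _
      | succ l =>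
        simp only [S.x_zero, div_one]
        exact Algebra.subset_adjoin ⟨l, rfl⟩
    · rintro _ ⟨l, rfl⟩
      exact Algebra.subset_adjoin ⟨l.succ, by simp only [S.x_zero, div_one]; rfl⟩
  have hBR : B ≤ R := Algebra.adjoin_le (by rintro _ ⟨l, rfl⟩; exact S.mem 0 l)
  letI : Algebra B R := (Subalgebra.inclusion hBR).toRingHom.toAlgebra
  haveI : IsScalarTower B R K := IsScalarTower.of_algebraMap_eq fun _ => rfl
  haveI : Algebra.IsIntegral B R := ⟨fun r =>
    (isIntegral_algHom_iff (IsScalarTower.toAlgHom B R K) Subtype.val_injective).1 (S.isIntegral_ratios 0 r.2)⟩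
  have hinj : Function.Injective (algebraMap B R) := Subalgebra.inclusion_injective hBR
  have hdimR : ringKrullDim R = ringKrullDim B := VarDim.ringKrullDim_eq_of_isIntegral hinj
  have hR : ringKrullDim R = (n + 1 : ℕ) := by
    let e : Γ(X.left, S.U 0) ≃+* R := RingEquiv.ofBijective
      ((val (S.U 0) (S.generic 0)).codRestrict R (fun a => val_mem_reg _ a))
      ⟨fun a b h => val_injective _ _ (congrArg Subtype.val h), fun r => by
        obtain ⟨a, ha⟩ := exists_val_eq (S.generic 0) r.2
        exact ⟨a, Subtype.ext ha⟩⟩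
    rw [← ringKrullDim_eq_of_ringEquiv e, ← PrimeSpectrum.topologicalKrullDim_eq_ringKrullDim]
    haveI : LocallyOfFiniteType X.hom := inferInstance
    haveI : Nonempty (S.U 0) := ⟨⟨_, S.generic 0⟩⟩
    haveI : IsIntegral (S.U 0 : Scheme.{u}) := isIntegral_of_isOpenImmersion (S.U 0).ι
    have h1 : topologicalKrullDim (S.U 0 : Scheme.{u}) = topologicalKrullDim X.left := by
      rw [VarDim.dim_eq_sdim_genericPoint ((S.U 0).ι ≫ X.hom), VarDim.dim_eq_sdim_genericPoint X.hom,
        VarDim.sdim_comp_of_surjective X.hom (S.U 0).ι, genericPoint_eq_of_isOpenImmersion]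
    rw [← hdim, ← h1]
    exact (IsHomeomorph.topologicalKrullDim_eq _
      (Scheme.homeoOfIso (S.affine 0).isoSpec).isHomeomorph).symm
  let φ : MvPolynomial (Fin (n + 1)) k →+* B :=
    (MvPolynomial.aeval (R := k) x).toRingHom.codRestrict B (fun p => by rw [hB]; exact ⟨p, rfl⟩)
  have hφ : Function.Surjective φ := fun b => by
    obtain ⟨p, hp⟩ := (hB ▸ b.2 : (b : K) ∈ (MvPolynomial.aeval (R := k) x).range)
    exact ⟨p, Subtype.ext hp⟩
  by_contra hni
  obtain ⟨p, hp, hp0⟩ : ∃ p, MvPolynomial.aeval x p = 0 ∧ p ≠ 0 := by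
    rw [algebraicIndependent_iff] at hni
    push Not at hni
    exact hni
  have hle : Ideal.span {p} ≤ RingHom.ker φ := by
    rw [Ideal.span_le, Set.singleton_subset_iff]
    exact Subtype.ext hp
  have h2 : ringKrullDim B ≤ ringKrullDim (MvPolynomial (Fin (n + 1)) k ⧸ Ideal.span {p}) :=
    ringKrullDim_le_of_surjective (Ideal.Quotient.lift _ φ fun a ha => hle ha)
      (Ideal.Quotient.lift_surjective_of_surjective _ _ hφ)
  have h3 := ringKrullDim_quotient_succ_le_of_nonZeroDivisor (mem_nonZeroDivisors_of_ne_zero hp0)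
  rw [VarDim.ringKrullDim_mvPolynomial] at h3
  rw [← hdimR, hR] at h2
  have h4 : ((n + 1 : ℕ) : WithBot ℕ∞) + 1 ≤ ((n + 1 : ℕ) : WithBot ℕ∞) := (add_le_add h2 le_rfl).trans h3
  norm_cast at h4
  omega

/-- The charts in the function field. -/
noncomputable def toCharts [IsProper X.hom] (hdim : topologicalKrullDim X.left = (n + 1 : ℕ)) :
    Charts k X.left.functionField n where
  X := S.x
  R := fun i => reg (S.U i)
  X_zero := S.x_zero
  mem := S.mem
  overlap := fun i _ hf => S.overlap i hf
  indep := S.indep hdim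
  finite := S.finite
  frac := fun f => by
    haveI : Nonempty (S.U 0) := ⟨⟨_, S.generic 0⟩⟩
    haveI := functionField_isFractionRing_of_isAffineOpen X.left (S.U 0) (S.affine 0)
    obtain ⟨⟨a, ⟨b, hb⟩⟩, h⟩ := IsLocalization.surj (nonZeroDivisors Γ(X.left, S.U 0)) f
    refine ⟨val (S.U 0) (S.generic 0) a, val_mem_reg _ a, val (S.U 0) (S.generic 0) b, val_mem_reg _ b, ?_, ?_⟩
    · exact fun e => nonZeroDivisors.ne_zero hb (val_injective _ _ (e.trans (map_zero _).symm))
    · rw [mul_comm]; exact h

end SecSys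

end Groth.Agent.AVDegree22
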