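import Groth.Agent.Lib.AVDegree22.Ops
import Groth.Agent.Lib.Ample18.Avoid

/-!
# Systems of charts from sections of an invertible module
-/

universe u

open CategoryTheory AlgebraicGeometry TopologicalSpace

set_option backward.isDefEq.respectTransparency false
set_option linter.style.haveILetI false

namespace Groth.Agent.AVDegree22

open Groth.Agent.Amp
open Groth.Agent.M2 (tsec pullSec IsGenerator res)

variable {k : Type u} [Field k] {X : Over (Spec (CommRingCat.of k))} [IsIntegral X.left]
  {M N : X.left.Modules}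

/-- `r` is the ratio of `t` to `s`. -/
def IsRatio (s t : Coh.structureModule X.left ⟶ M) (r : X.left.functionField) : Prop :=
  (show X.left.presheaf.stalk (genericPoint X.left) from r) •
      gm M (genericPoint X.left) (U := ⊤) trivial (gval s) = gm M (genericPoint X.left) (U := ⊤) trivial (gval t)

theorem IsRatio.unique (hM : PicF.IsInvertible M) {s t : Coh.structureModule X.left ⟶ M}
    (hs : genericPoint X.left ∈ CohB1.genLocus M s) {r r' : X.left.functionField} (h : IsRatio s t r)
    (h' : IsRatio s t r') : r = r' :=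
  ((mem_genLocus_iff hM s).1 hs).1 (h.trans h'.symm)

theorem IsRatio.trans {a b c : Coh.structureModule X.left ⟶ M} {r r' : X.left.functionField}
    (h : IsRatio a b r) (h' : IsRatio b c r') : IsRatio a c (r' * r) := by
  unfold IsRatio at h h' ⊢
  exact ((mul_smul _ _ _).trans (by rw [h])).trans h'

theorem isRatio_self (a : Coh.structureModule X.left ⟶ M) : IsRatio a a 1 := one_smul _ _

theorem exists_isRatio (hM : PicF.IsInvertible M) {s : Coh.structureModule X.left ⟶ M}
    (t : Coh.structureModule X.left ⟶ M) (hs : genericPoint X.left ∈ CohB1.genLocus M s) :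
    ∃ r, IsRatio s t r ∧ r ∈ reg (CohB1.genLocus M s) ∧
      (r ≠ 0 → ∀ z ∈ CohB1.genLocus M s, r⁻¹ ∈ regAt z → z ∈ CohB1.genLocus M t) := by
  obtain ⟨h, hh, hD⟩ := exists_ratio hM s t
  refine ⟨val _ hs h, ?_, val_mem_reg hs h, fun hne z hz hi => ?_⟩
  · have h1 := congrArg (gm M (genericPoint X.left) (U := CohB1.genLocus M s) hs) hh
    rw [gm_smul, gm_res, gm_res] at h1
    exact h1
  · have : z ∈ CohB1.genLocus M t ⊓ CohB1.genLocus M s := by
      rw [hD]
      exact (isUnit_germ_iff hs hz h hne).2 hi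
    exact this.1

theorem IsRatio.mem_reg (hM : PicF.IsInvertible M) {s t : Coh.structureModule X.left ⟶ M}
    (hs : genericPoint X.left ∈ CohB1.genLocus M s) {r : X.left.functionField} (h : IsRatio s t r) :
    r ∈ reg (CohB1.genLocus M s) := by
  obtain ⟨r', h', hr', -⟩ := exists_isRatio hM t hs
  rwa [h.unique hM hs h']

theorem IsRatio.ne_zero (hM : PicF.IsInvertible M) {s t : Coh.structureModule X.left ⟶ M}
    (ht : genericPoint X.left ∈ CohB1.genLocus M t) {r : X.left.functionField} (h : IsRatio s t r) : r ≠ 0 := by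
  rintro rfl
  unfold IsRatio at h
  rw [show (show X.left.presheaf.stalk (genericPoint X.left) from (0 : X.left.functionField)) = 0 from rfl,
    zero_smul] at h
  exact not_gen_zero hM _ (h ▸ (mem_genLocus_iff hM t).1 ht)

/-- A system of charts is attached to sections of an invertible module. -/
structure SecSys.IsOf {n : ℕ} (S : SecSys X n) (M : X.left.Modules)
    (a : Fin (n + 2) → (Coh.structureModule X.left ⟶ M)) : Prop where
  inv : PicF.IsInvertible M
  U_eq : ∀ i, CohB1.genLocus M (a i) = S.U i
  ratio : ∀ i, IsRatio (a 0) (a i) (S.x i)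

theorem SecSys.IsOf.generic {n : ℕ} {S : SecSys X n} {a : Fin (n + 2) → (Coh.structureModule X.left ⟶ M)}
    (h : S.IsOf M a) (i : Fin (n + 2)) : genericPoint X.left ∈ CohB1.genLocus M (a i) :=
  (h.U_eq i).symm ▸ S.generic i

theorem ratio_div (hM : PicF.IsInvertible M) {a b c : Coh.structureModule X.left ⟶ M}
    (ha : genericPoint X.left ∈ CohB1.genLocus M a) (hb : genericPoint X.left ∈ CohB1.genLocus M b)
    {r r' : X.left.functionField} (h : IsRatio a b r) (h' : IsRatio a c r') : IsRatio b c (r' / r) := by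
  obtain ⟨q, hq, -, -⟩ := exists_isRatio hM c hb
  have := (h.trans hq).unique hM ha h'
  rwa [← this, mul_div_assoc, div_self (h.ne_zero hM hb), mul_one]

/-- Two systems attached to sections of one module are compatible. -/
theorem SecSys.IsOf.compat {n : ℕ} {S T : SecSys X n} {a b : Fin (n + 2) → (Coh.structureModule X.left ⟶ M)}
    (hS : S.IsOf M a) (hT : T.IsOf M b) : ∃ u, S.Compat T u := by
  obtain ⟨u, hu, -, -⟩ := exists_isRatio hS.inv (a 0) (hT.generic 0)
  refine ⟨u, hu.ne_zero hS.inv (hS.generic 0), fun i j z hz => ?_⟩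
  have h1 : IsRatio (b 0) (a i) (u * S.x i) := by
    rw [mul_comm]
    exact hu.trans (hS.ratio i)
  constructor
  · exact AVDegree22.mem_reg.1 ((ratio_div hS.inv (hT.generic 0) (hT.generic j) (hT.ratio j) h1).mem_reg hS.inv (hT.generic j)) z
      ((hT.U_eq j).symm ▸ hz.2)
  · exact AVDegree22.mem_reg.1 ((ratio_div hS.inv (hT.generic 0) (hS.generic i) h1 (hT.ratio j)).mem_reg hS.inv (hS.generic i)) z
      ((hS.U_eq i).symm ▸ hz.1)

/-- The system of a tuple of sections with affine loci. -/
theorem exists_secSys {n : ℕ} (hM : PicF.IsInvertible M) (a : Fin (n + 2) → (Coh.structureModule X.left ⟶ M))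
    (haff : ∀ i, IsAffineOpen (CohB1.genLocus M (a i))) (hgen : ∀ i, genericPoint X.left ∈ CohB1.genLocus M (a i))
    (hcov : ∀ z, ∃ i, z ∈ CohB1.genLocus M (a i)) : ∃ S : SecSys X n, S.IsOf M a := by
  choose x hx hreg hloc using fun i => exists_isRatio hM (a i) (hgen 0)
  have hdiv : ∀ i l, IsRatio (a i) (a l) (x l / x i) := fun i l => ratio_div hM (hgen 0) (hgen i) (hx i) (hx l)
  refine ⟨
    { U := fun i => CohB1.genLocus M (a i)
      affine := haff
      generic := hgen
      cover := hcov
      x := x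
      x_zero := (hx 0).unique hM (hgen 0) (isRatio_self _)
      x_ne := fun i => (hx i).ne_zero hM (hgen i)
      mem := fun i l => (hdiv i l).mem_reg hM (hgen i)
      locus := fun i l z hz h => ?_ }, ⟨hM, fun i => rfl, hx⟩⟩
  obtain ⟨r, hr, -, hr'⟩ := exists_isRatio hM (a l) (hgen i)
  have hne := hr.ne_zero hM (hgen l)
  rw [hr.unique hM (hgen i) (hdiv i l)] at hr' hne
  exact hr' hne z hz (by rwa [inv_div])

/-- Transport along an isomorphism of modules. -/
theorem SecSys.IsOf.map_iso {n : ℕ} {S : SecSys X n} {a : Fin (n + 2) → (Coh.structureModule X.left ⟶ M)}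
    (h : S.IsOf M a) (e : M ≅ N) (hN : PicF.IsInvertible N) : S.IsOf N fun i => a i ≫ e.hom := by
  refine ⟨hN, fun i => (genLocus_comp_iso e (a i)).trans (h.U_eq i), fun i => ?_⟩
  obtain ⟨r, hr, -, -⟩ := exists_isRatio hN (a i ≫ e.hom) (s := a 0 ≫ e.hom)
    ((genLocus_comp_iso e (a 0)).symm ▸ h.generic 0)
  have h' := h.ratio i
  unfold IsRatio at h' ⊢
  rw [gval_comp, gval_comp]
  let st := M2.stMap ((M2.pmF X.left).map e.hom) (genericPoint X.left)
  have hst : ∀ t : Γ(M, (⊤ : X.left.Opens)),
      gm N (genericPoint X.left) (U := ⊤) trivial (e.hom.app ⊤ t) = st (gm M (genericPoint X.left) (U := ⊤) trivial t) :=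
    fun t => (M2.stMap_sg ((M2.pmF X.left).map e.hom) (U := ⊤) trivial t).symm
  rw [hst, hst, ← h', map_smul]

/-- Powers. -/
theorem SecSys.IsOf.pow {n : ℕ} {S : SecSys X n} {a : Fin (n + 2) → (Coh.structureModule X.left ⟶ M)}
    (h : S.IsOf M a) (q : ℕ) (hq : 0 < q) :
    (S.pow q hq).IsOf (CohB1.tensorPow M q) fun i => M1.secHom (pw (gval (a i)) q) := by
  have hM := h.inv
  obtain ⟨p, rfl⟩ := Nat.exists_eq_add_of_le' hq
  refine ⟨isInvertible_tensorPow hM _, fun i => ?_, fun i => ?_⟩
  · refine (genLocus_eq_of_forall (isInvertible_tensorPow hM _) _ _ fun y => ?_).trans (h.U_eq i)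
    rw [gval_secHom, gen_pw_succ hM, mem_genLocus_iff hM]
  · obtain ⟨c, hc, -⟩ := exists_ratio hM (a 0) (a i)
    have hx : val _ (h.generic 0) c = S.x i := by
      refine IsRatio.unique hM (h.generic 0) ?_ (h.ratio i)
      have h1 := congrArg (gm M (genericPoint X.left) (U := CohB1.genLocus M (a 0)) (h.generic 0)) hc
      rw [gm_smul, gm_res, gm_res] at h1
      exact h1
    have h2 := congrArg (fun e => gm (CohB1.tensorPow M (p + 1)) (genericPoint X.left)
      (U := CohB1.genLocus M (a 0)) (h.generic 0) (pw e (p + 1))) hc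
    simp only [pw_smul] at h2
    rw [← res_pw, ← res_pw, gm_smul, gm_res, gm_res, map_pow] at h2
    unfold IsRatio
    rw [gval_secHom, gval_secHom]
    show (show X.left.presheaf.stalk (genericPoint X.left) from S.x i ^ (p + 1)) • _ = _
    rw [← hx]
    exact h2

variable {Y : Over (Spec (CommRingCat.of k))} [IsIntegral Y.left] (f : Y ⟶ X) [IsDominant f.left]
  [IsAffineHom f.left]

/-- Pullback. -/
theorem SecSys.IsOf.pull {n : ℕ} {S : SecSys X n} {a : Fin (n + 2) → (Coh.structureModule X.left ⟶ M)}
    (h : S.IsOf M a) : (S.pull f).IsOf ((Scheme.Modules.pullback f.left).obj M)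
      fun i => M1.secHom (show Γ((Scheme.Modules.pullback f.left).obj M, (⊤ : Y.left.Opens)) from
        pullSec f.left M (U := ⊤) (gval (a i))) := by
  have hM := h.inv
  have hN := PicLoc.isInvertible_pullback f.left hM
  refine ⟨hN, fun i => ?_, fun i => ?_⟩
  · refine (genLocus_eq_of_forall hN _ (f.left ⁻¹ᵁ S.U i) fun y => ?_)
    rw [gval_secHom]
    refine (gen_pullSec_iff f.left hM (U := ⊤) (y := y) trivial (gval (a i))).trans ?_
    rw [← mem_genLocus_iff hM, h.U_eq]
    rfl
  · obtain ⟨c, hc, -⟩ := exists_ratio hM (a 0) (a i)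
    have hx : val _ (h.generic 0) c = S.x i := by
      refine IsRatio.unique hM (h.generic 0) ?_ (h.ratio i)
      have h1 := congrArg (gm M (genericPoint X.left) (U := CohB1.genLocus M (a 0)) (h.generic 0)) hc
      rw [gm_smul, gm_res, gm_res] at h1
      exact h1
    have hy : genericPoint Y.left ∈ f.left ⁻¹ᵁ CohB1.genLocus M (a 0) :=
      show f.left (genericPoint Y.left) ∈ _ from (map_generic f).symm ▸ h.generic 0
    have h2 := congrArg (fun e => gm ((Scheme.Modules.pullback f.left).obj M) (genericPoint Y.left)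
      (U := f.left ⁻¹ᵁ CohB1.genLocus M (a 0)) hy (pullSec f.left M e)) hc
    simp only [M2.pullSec_smul] at h2
    rw [gm_smul] at h2
    have e : ∀ t : Γ(M, (⊤ : X.left.Opens)), gm ((Scheme.Modules.pullback f.left).obj M) (genericPoint Y.left)
        (U := f.left ⁻¹ᵁ CohB1.genLocus M (a 0)) hy
        (pullSec f.left M (res M (le_top : CohB1.genLocus M (a 0) ≤ ⊤) t)) =
        gm ((Scheme.Modules.pullback f.left).obj M) (genericPoint Y.left) (U := f.left ⁻¹ᵁ (⊤ : X.left.Opens))
          trivial (pullSec f.left M t) := fun t => by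
      rw [← gm_res (f.left.preimage_mono (le_top : CohB1.genLocus M (a 0) ≤ ⊤)) hy (pullSec f.left M t)]
      exact congrArg _ (M1.app_mres ((Scheme.Modules.pullbackPushforwardAdjunction f.left).unit.app M) le_top t)
    rw [e, e] at h2
    unfold IsRatio
    rw [gval_secHom, gval_secHom]
    refine Eq.trans ?_ h2
    congr 1
    show fieldMap f (S.x i) = _
    rw [← hx, fieldMap_val]
    rfl

end Groth.Agent.AVDegree22
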